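import Cfsg.Agent.TwoExp.Series

/-!
Bryukhanova's theorem: a finite 2-solvable group has 2-length at most `e` when its Sylow 2-subgroups
have exponent dividing `2 ^ e`.
-/

set_option autoImplicit false

open scoped TensorProduct

namespace Cfsg.Agent.TwoExp

open Subgroup
open scoped commutatorElement Pointwise
open Cfsg.Agent.TwoLength Cfsg.Agent.HallHigman

universe u

section sums

variable {Y : Type*} [Group Y] {X : Type*} [Group X] {V : Type*} [AddCommGroup V] [Module (ZMod 2) V]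
  (f : X →* Y) (ρ : Y →* Module.End (ZMod 2) V) (φ : X → V)

/-- Sums of translates are images of `(r g)ⁿ g⁻ⁿ`. -/
theorem sum_nu {K : Subgroup X} (hadd : ∀ r ∈ K, ∀ s ∈ K, φ (r * s) = φ r + φ s) {g : X}
    (hg : g ∈ normalizer (K : Set X)) (hconj : ∀ r ∈ K, ρ (f g) (φ r) = φ (g * r * g⁻¹)) {r : X} (hr : r ∈ K) :
    ∀ n : ℕ, ∑ l ∈ Finset.range n, ρ ((f g) ^ l) (φ r) = φ ((r * g) ^ n * (g ^ n)⁻¹)
  | 0 => by
    have h := hadd 1 K.one_mem 1 K.one_mem
    rw [mul_one, left_eq_add] at h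
    rw [Finset.sum_range_zero, pow_zero, pow_zero, inv_one, mul_one, h]
  | n + 1 => by
    have hn := nu_mem hr hg n
    rw [Finset.sum_range_succ', show (r * g) ^ (n + 1) * (g ^ (n + 1))⁻¹ =
        r * (g * ((r * g) ^ n * (g ^ n)⁻¹) * g⁻¹) by rw [pow_succ', pow_succ']; group,
      hadd r hr _ ((mem_normalizer_iff.1 hg _).1 hn), ← hconj _ hn, ← sum_nu hadd hg hconj hr n, map_sum,
      pow_zero, map_one, Module.End.one_apply, add_comm]
    congr 1
    exact Finset.sum_congr rfl fun l _ => by rw [pow_succ', map_mul, Module.End.mul_apply]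

end sums

variable {X : Type u} [Group X] [Finite X]

/-- The induction: short differences bound the 2-length. -/
theorem pLengthLE_of_nil : ∀ (e : ℕ) (X : Type u) [Group X] [Finite X] (W : Type u) [AddCommGroup W]
    [Module (ZMod 2) W] [Finite W] (ρ : X →* Module.End (ZMod 2) W), Function.Injective ρ →
    Cfsg.IsPSolvable 2 X → Cfsg.pCore 2 X = ⊥ → ∀ P : Sylow 2 X,
    (∀ g ∈ (P : Subgroup X), opN ρ g ^ (2 ^ e - 1) = 0) → Cfsg.PLengthLE 2 (e - 1) X := by
  haveI : Fact (Nat.Prime 2) := ⟨Nat.prime_two⟩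
  intro e
  induction e with
  | zero =>
    intro X _ _ W _ _ _ ρ hinj _ _ P hL
    refine pLengthLE_zero_of_sylow_bot P ((eq_bot_iff_forall _).2 fun g hg => hinj ?_)
    have h0 := hL g hg
    rw [pow_zero, Nat.sub_self, pow_zero] at h0
    refine LinearMap.ext fun v => ?_
    have h1 : ∀ w : W, w = 0 := fun w => LinearMap.congr_fun h0 w
    rw [h1 (ρ g v), h1 (ρ 1 v)]
  | succ e ih =>
    intro X _ _ W _ _ _ ρ hinj hX hO P hL
    rcases e with _ | m
    · refine pLengthLE_zero_of_sylow_bot P ((eq_bot_iff_forall _).2 fun g hg => hinj ?_)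
      have h0 := hL g hg
      rw [show (2 : ℕ) ^ (0 + 1) - 1 = 1 from rfl, pow_one] at h0
      rw [map_one]
      exact sub_eq_zero.1 h0
    -- extend the field
    let k := AlgebraicClosure (ZMod 2)
    haveI : CharP k 2 := charP_of_injective_algebraMap (algebraMap (ZMod 2) k).injective 2
    haveI : Module.Finite (ZMod 2) W := Module.Finite.of_finite
    let B := Module.End.baseChangeHom (ZMod 2) k W
    let σ : X →* Module.End k (k ⊗[ZMod 2] W) := B.toMonoidHom.comp ρ
    let emb : W →+ k ⊗[ZMod 2] W := (TensorProduct.mk (ZMod 2) k W 1).toAddMonoidHom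
    have hemb : ∀ g w, emb (ρ g w) = σ g (emb w) := fun g w => rfl
    have hσinj : Function.Injective σ := fun g h e => hinj (LinearMap.ext fun w => by
      refine Module.Flat.tensorProduct_mk_injective (R := ZMod 2) (S := k) W ?_
      show emb (ρ g w) = emb (ρ h w)
      rw [hemb, hemb, e])
    have hσL : ∀ g ∈ (P : Subgroup X), opN σ g ^ (2 ^ (m + 2) - 1) = 0 := fun g hg => by
      rw [show opN σ g = B (opN ρ g) from (map_sub B (ρ g) 1).symm ▸ by rw [map_one]; rfl,
        ← map_pow, hL g hg, map_zero]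
    set N := Cfsg.pPrimeCore 2 X with hN
    have hNcop : (Nat.card N).Coprime 2 := Core.coprime_card_pPrimeCore
    set π := QuotientGroup.mk' N with hπ
    have hπs : Function.Surjective π := QuotientGroup.mk'_surjective N
    set O := Cfsg.pCore 2 (X ⧸ N) with hOdef
    set R₀ := (P : Subgroup X) ⊓ O.comap π with hR₀
    have hR₀P : R₀ ≤ (P : Subgroup X) := inf_le_left
    have hPR : (P : Subgroup X) ≤ normalizer (R₀ : Set X) :=
      Coprime.le_normalizer_inf le_normalizer le_normalizer_of_normal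
    obtain ⟨c, L, hL0, hLc, hLR, hLN, hLd⟩ := exists_series hσinj P.2 hNcop
      (Core.centralizer_pPrimeCore_le hX hO) hR₀P hPR (Nat.le_add_left 1 _) hσL
    have hlift : ∀ r ∈ O, ∃ x ∈ R₀, π x = r := fun r hr => by
      obtain ⟨x, hx, rfl⟩ : r ∈ (P : Subgroup X).map π := Core.pCore_le_sylow (P.mapSurjective hπs) hr
      exact ⟨x, ⟨hx, hr⟩, rfl⟩
    have hcover : ∀ g : X, ∃ y ∈ normalizer (R₀ : Set X), π y = π g := by
      intro g
      have hB : R₀.map (MulAut.conj g).toMonoidHom ≤ N ⊔ R₀ := by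
        rintro _ ⟨r, hr, rfl⟩
        obtain ⟨x, hx, e⟩ := hlift (π (g * r * g⁻¹)) (by
          rw [map_mul, map_mul, map_inv]
          exact Core.pCore_normal.conj_mem _ hr.2 _)
        show g * r * g⁻¹ ∈ N ⊔ R₀
        rw [show g * r * g⁻¹ = g * r * g⁻¹ * x⁻¹ * x by group]
        exact mul_mem (mem_sup_left ((QuotientGroup.eq_one_iff _).1 (by
          show π (g * r * g⁻¹ * x⁻¹) = 1
          rw [map_mul, map_inv, e, mul_inv_cancel]))) (mem_sup_right hx)
      obtain ⟨n, hn, he⟩ := Coprime.exists_conj_eq (A := R₀) (K := N) le_normalizer_of_normal (by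
          obtain ⟨j, hj⟩ := IsPGroup.iff_card.1 (P.2.to_le hR₀P)
          rw [hj]
          exact Nat.Coprime.pow_left j hNcop.symm)
        (Or.inl (haveI := (P.2.to_le hR₀P).isNilpotent; inferInstance)) hB
        (card_map_of_injective (MulAut.conj g).injective)
      refine ⟨n * g, ?_, ?_⟩
      · rw [mem_normalizer_iff_map_conj_eq]
        show MulAut.conj (n * g) • R₀ = R₀
        rw [map_mul, ← smul_smul]
        exact he
      · rw [map_mul, show π n = 1 from (QuotientGroup.eq_one_iff n).2 hn, one_mul]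
    -- the module of `X / N`
    have hY := Layer.isPSolvable_of_surjective hX hπs
    obtain ⟨V, i1, i2, i3, ψ, ρY, ρ', hψ, hψs, hρY, hρ', hinj'⟩ :=
      PLength.exists_frattini_module hY (Core.pPrimeCore_quotient_eq_bot (G := X) (p := 2))
    classical
    let φ : X → V := fun x => if h : π x ∈ O then ψ ⟨π x, h⟩ else 0
    have hφ : ∀ x (h : π x ∈ O), φ x = ψ ⟨π x, h⟩ := fun x h => dif_pos h
    have hadd : ∀ r ∈ R₀, ∀ s ∈ R₀, φ (r * s) = φ r + φ s := fun r hr s hs => by
      have hrs : π (r * s) ∈ O := by rw [map_mul]; exact mul_mem hr.2 hs.2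
      rw [hφ r hr.2, hφ s hs.2, hφ _ hrs, ← hψ]
      congr 1
    have hφ1 : φ 1 = 0 := by
      have h := hadd 1 R₀.one_mem 1 R₀.one_mem
      rwa [mul_one, left_eq_add] at h
    have hequ : ∀ y ∈ normalizer (R₀ : Set X), ∀ r ∈ R₀,
        y * r * y⁻¹ ∈ R₀ ∧ ρY (π y) (φ r) = φ (y * r * y⁻¹) := fun y hy r hr => by
      have h1 := (mem_normalizer_iff.1 hy r).1 hr
      refine ⟨h1, ?_⟩
      rw [hφ r hr.2, hφ _ h1.2, hρY]
      congr 1
    have hφsurj : ∀ v, ∃ r ∈ R₀, φ r = v := fun v => by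
      obtain ⟨⟨r, hr⟩, rfl⟩ := hψs v
      obtain ⟨x, hx, rfl⟩ := hlift r hr
      exact ⟨x, hx, hφ x hr⟩
    set π' := QuotientGroup.mk' (Cfsg.pCore 2 (X ⧸ N))
    have hπ's : Function.Surjective π' := QuotientGroup.mk'_surjective _
    -- the submodules of the series
    let M : ℕ → Submodule (ZMod 2) V := fun s => AddSubgroup.toZModSubmodule 2
      { carrier := φ '' (L s : Set X)
        add_mem' := by
          rintro _ _ ⟨x, hx, rfl⟩ ⟨y, hy, rfl⟩
          exact ⟨x * y, mul_mem hx hy, hadd x (hLR s hx) y (hLR s hy)⟩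
        zero_mem' := ⟨1, one_mem _, hφ1⟩
        neg_mem' := by
          rintro _ ⟨x, hx, rfl⟩
          refine ⟨x⁻¹, inv_mem hx, eq_neg_of_add_eq_zero_left ?_⟩
          rw [← hadd _ (inv_mem (hLR s hx)) x (hLR s hx), inv_mul_cancel, hφ1] }
    have hMinv : ∀ s g, ∀ v ∈ M s, ρ' g v ∈ M s := by
      intro s g v hv
      obtain ⟨x, hx, rfl⟩ := hv
      obtain ⟨g₁, rfl⟩ := hπ's g
      obtain ⟨g₂, rfl⟩ := hπs g₁
      obtain ⟨y, hy, e⟩ := hcover g₂
      show ρ' (QuotientGroup.mk (π g₂)) (φ x) ∈ M s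
      rw [hρ', ← e, (hequ y hy x (hLR s hx)).2]
      exact ⟨_, (mem_normalizer_iff.1 (hLN s hy) x).1 hx, rfl⟩
    -- the factors
    let τq : (s : ℕ) → ((X ⧸ N) ⧸ Cfsg.pCore 2 (X ⧸ N)) →* Module.End (ZMod 2) (V ⧸ M s) := fun s =>
      { toFun := fun g => (M s).mapQ (M s) (ρ' g) (fun v hv => hMinv s g v hv)
        map_one' := LinearMap.ext fun v => by
          obtain ⟨v, rfl⟩ := Submodule.Quotient.mk_surjective _ v
          simp
        map_mul' := fun g h => LinearMap.ext fun v => by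
          obtain ⟨v, rfl⟩ := Submodule.Quotient.mk_surjective _ v
          simp }
    let F : (s : Fin c) → Submodule (ZMod 2) (V ⧸ M s) := fun s => (M ((s : ℕ) + 1)).map (M s).mkQ
    have hFinv : ∀ (s : Fin c) g, ∀ x ∈ F s, τq s g x ∈ F s := by
      rintro s g _ ⟨v, hv, rfl⟩
      exact ⟨ρ' g v, hMinv _ g v hv, rfl⟩
    let ρ'' : ((X ⧸ N) ⧸ Cfsg.pCore 2 (X ⧸ N)) →* Module.End (ZMod 2) (∀ s : Fin c, F s) :=
      { toFun := fun g => LinearMap.pi fun s => ((τq s g).restrict (hFinv s g)).comp (LinearMap.proj s)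
        map_one' := LinearMap.ext fun x => funext fun s => Subtype.ext (by simp)
        map_mul' := fun g h => LinearMap.ext fun x => funext fun s => Subtype.ext (by simp) }
    haveI : ∀ s : Fin c, Finite (V ⧸ M s) := fun s => Finite.of_surjective _ (M s).mkQ_surjective
    have hnil'' : ∀ g' ∈ (((P.mapSurjective hπs).mapSurjective hπ's : Sylow 2 _) : Subgroup _),
        opN ρ'' g' ^ (2 ^ (m + 1) - 1) = 0 := by
      intro g' hg'
      obtain ⟨g₁, ⟨g, hg, rfl⟩, rfl⟩ := hg'
      refine LinearMap.ext fun x => funext fun s => Subtype.ext ?_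
      obtain ⟨v, hv, e⟩ := (x s).2
      obtain ⟨r, hr, rfl⟩ := hv
      have hpow : ∀ n, ((((opN ρ'' (π' (π g)) ^ n) x) s : F s) : V ⧸ M s) =
          (M s).mkQ ((opN ρ' (π' (π g)) ^ n) (φ r)) := by
        intro n
        induction n with
        | zero => exact e.symm
        | succ n ihn =>
          rw [pow_succ', Module.End.mul_apply, pow_succ', Module.End.mul_apply, opN_apply, opN_apply,
            Pi.sub_apply, Submodule.coe_sub, map_sub, ← ihn]
          refine congrArg₂ (· - ·) ?_ rfl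
          show τq s _ ((((opN ρ'' (π' (π g)) ^ n) x) s : F s) : V ⧸ M s) = _
          rw [ihn]
          rfl
      have hkey := sum_nu (π'.comp π) ρ' φ hadd (hPR hg) (fun r hr => by
        rw [← (hequ g (hPR hg) r hr).2, ← hρ']; rfl) (hLR _ hr) (2 ^ (m + 1))
      simp only [MonoidHom.comp_apply] at hkey
      rw [hpow, opN_pow_pred, LinearMap.sum_apply, hkey]
      exact (Submodule.Quotient.mk_eq_zero _).2 ⟨_, hLd s r hr g hg, rfl⟩
    have hYO : Cfsg.pCore 2 ((X ⧸ N) ⧸ Cfsg.pCore 2 (X ⧸ N)) = ⊥ := Core.pCore_quotient_eq_bot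
    have hinj'' : Function.Injective ρ'' := by
      rw [← MonoidHom.ker_eq_bot_iff, eq_bot_iff, ← hYO]
      refine Core.le_pCore fun g => ⟨c, Subtype.ext (hinj' ?_)⟩
      have hstep : ∀ s < c, ∀ v ∈ M (s + 1), opN ρ' g.1 v ∈ M s := fun s hs v hv => by
        have h1 := congrArg Subtype.val (congrFun (LinearMap.congr_fun (MonoidHom.mem_ker.1 g.2)
          (Pi.single (⟨s, hs⟩ : Fin c) (⟨(M s).mkQ v, v, hv, rfl⟩ : F ⟨s, hs⟩))) ⟨s, hs⟩)
        simp only [Module.End.one_apply] at h1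
        change τq s g.1 ((Pi.single (⟨s, hs⟩ : Fin c) _ : ∀ t : Fin c, F t) ⟨s, hs⟩ : V ⧸ M s) = _ at h1
        rw [Pi.single_eq_same] at h1
        rw [opN_apply]
        exact (Submodule.Quotient.eq (M s)).1 h1
      have hiter : ∀ j ≤ c, ∀ v ∈ M c, (opN ρ' g.1 ^ j) v ∈ M (c - j) := by
        intro j
        induction j with
        | zero => intro _ v hv; exact hv
        | succ j ihj =>
          intro hj v hv
          rw [pow_succ', Module.End.mul_apply]
          refine hstep _ (by omega) _ ?_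
          rw [show c - (j + 1) + 1 = c - j by omega]
          exact ihj (by omega) v hv
      have hz : opN ρ' g.1 ^ c = 0 := by
        refine LinearMap.ext fun v => ?_
        obtain ⟨r, hr, rfl⟩ := hφsurj v
        have h1 := hiter c le_rfl (φ r) ⟨r, hLc.ge hr, rfl⟩
        rw [Nat.sub_self] at h1
        obtain ⟨y, hy, e⟩ := h1
        rw [SetLike.mem_coe, hL0, mem_bot] at hy
        rw [← e, hy, hφ1, LinearMap.zero_apply]
      have hz2 : opN ρ' (g.1 ^ 2 ^ c) = 0 := by
        rw [← opN_pow_two_pow, ← Nat.sub_add_cancel (Nat.le_of_lt (Nat.lt_two_pow_self (n := c))), pow_add, hz,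
          mul_zero]
      rw [SubgroupClass.coe_pow, OneMemClass.coe_one, map_one]
      exact sub_eq_zero.1 hz2
    have hlen : Cfsg.PLengthLE 2 m ((X ⧸ N) ⧸ Cfsg.pCore 2 (X ⧸ N)) :=
      ih _ _ ρ'' hinj'' (Layer.isPSolvable_of_surjective hY hπ's) hYO
        ((P.mapSurjective hπs).mapSurjective hπ's) hnil''
    have h1 : Cfsg.PLengthLE 2 (1 + m) (X ⧸ N) :=
      PLength.of_extension _ (PLength.pLengthLE_one_of_isPGroup Core.pCore_isPGroup) hlen
    have h2 := PLength.of_extension N (PLength.pLengthLE_zero_of_coprime Core.coprime_card_pPrimeCore) h1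
    rwa [show 0 + (1 + m) = m + 1 + 1 - 1 by omega] at h2

/-- The 2-length is at most the exponent of a Sylow 2-subgroup. -/
theorem pLengthLE_exponent (hX : Cfsg.IsPSolvable 2 X) (e : ℕ)
    (hexp : ∀ P : Sylow 2 X, ∀ x ∈ (P : Subgroup X), x ^ 2 ^ e = 1) : Cfsg.PLengthLE 2 e X := by
  haveI : Fact (Nat.Prime 2) := ⟨Nat.prime_two⟩
  obtain ⟨P₀⟩ : Nonempty (Sylow 2 X) := inferInstance
  rcases e with _ | e
  · refine pLengthLE_zero_of_sylow_bot P₀ ((eq_bot_iff_forall _).2 fun g hg => ?_)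
    simpa using hexp P₀ g hg
  set U := Cfsg.pPrimeCore 2 X with hU
  set π := QuotientGroup.mk' U with hπ
  have hπs : Function.Surjective π := QuotientGroup.mk'_surjective U
  have hY := Layer.isPSolvable_of_surjective hX hπs
  set R := Cfsg.pCore 2 (X ⧸ U) with hR
  obtain ⟨V, i1, i2, i3, ψ, ρY, ρ', hψ, hψs, hρY, hρ', hinj'⟩ :=
    PLength.exists_frattini_module hY (Core.pPrimeCore_quotient_eq_bot (G := X) (p := 2))
  set P := P₀.mapSurjective hπs with hPdef
  classical
  let φ : X ⧸ U → V := fun x => if h : x ∈ R then ψ ⟨x, h⟩ else 0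
  have hφ : ∀ x (h : x ∈ R), φ x = ψ ⟨x, h⟩ := fun x h => dif_pos h
  set π' := QuotientGroup.mk' R
  have hπ's : Function.Surjective π' := QuotientGroup.mk'_surjective R
  have hadd : ∀ r ∈ R, ∀ s ∈ R, φ (r * s) = φ r + φ s := fun r hr s hs => by
    rw [hφ r hr, hφ s hs, hφ _ (mul_mem hr hs), ← hψ]; rfl
  have hexpP : ∀ x ∈ (P : Subgroup (X ⧸ U)), x ^ 2 ^ (e + 1) = 1 := by
    rintro _ ⟨x, hx, rfl⟩
    rw [← map_pow, hexp P₀ x hx, map_one]
  have hnil : ∀ g' ∈ ((P.mapSurjective hπ's : Sylow 2 _) : Subgroup _),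
      opN ρ' g' ^ (2 ^ (e + 1) - 1) = 0 := by
    rintro _ ⟨g, hg, rfl⟩
    refine LinearMap.ext fun v => ?_
    obtain ⟨⟨r, hr⟩, rfl⟩ := hψs v
    have hgR : g ∈ normalizer (R : Set (X ⧸ U)) := le_normalizer_of_normal (mem_top g)
    rw [← hφ r hr, opN_pow_pred, LinearMap.sum_apply, LinearMap.zero_apply,
      sum_nu π' ρ' φ hadd hgR (fun r hr => by
        have h1 : g * r * g⁻¹ ∈ R := Core.pCore_normal.conj_mem r hr g
        show ρ' (QuotientGroup.mk g) (φ r) = _
        rw [hρ', hφ r hr, hφ _ h1, hρY]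
        congr 1) hr,
      hexpP _ (mul_mem (Core.pCore_le_sylow P hr) hg), hexpP g hg, inv_one, mul_one, hφ 1 (one_mem R)]
    have h2 := hψ 1 1
    rw [mul_one] at h2
    exact left_eq_add.1 h2
  have hlen : Cfsg.PLengthLE 2 e ((X ⧸ U) ⧸ R) :=
    pLengthLE_of_nil (e + 1) _ V ρ' hinj' (Layer.isPSolvable_of_surjective hY hπ's)
      Core.pCore_quotient_eq_bot (P.mapSurjective hπ's) hnil
  have h1 : Cfsg.PLengthLE 2 (1 + e) (X ⧸ U) :=
    PLength.of_extension R (PLength.pLengthLE_one_of_isPGroup Core.pCore_isPGroup) hlen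
  have h2 := PLength.of_extension U (PLength.pLengthLE_zero_of_coprime Core.coprime_card_pPrimeCore) h1
  rwa [show 0 + (1 + e) = e + 1 by omega] at h2

end Cfsg.Agent.TwoExp
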