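import Cfsg.Agent.TwoExp.Part

/-!
An element whose differences die one step early, with its highest 2-power: the part it lives on is a
frame of prime degree, and it centralises the rest.
-/

set_option autoImplicit false

namespace Cfsg.Agent.TwoExp

open Subgroup
open scoped commutatorElement
open Cfsg.Agent.TwoLength Cfsg.Agent.HallHigman

universe u v w

variable {k : Type w} [Field k] [CharP k 2] {V : Type v} [AddCommGroup V] [Module k V] {G : Type u} [Group G]
  {τ : G →* Module.End k V} {q : ℕ} {C T : Subgroup G}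

/-- An exceptional element. -/
structure Exc (τ : G →* Module.End k V) (T : Subgroup G) (i : ℕ) (h : G) : Prop where
  mem : h ∈ T
  nil : opN τ h ^ (2 ^ (i + 1) - 1) = 0
  ne : h ^ 2 ^ i ≠ 1

theorem Exc.sq (hinj : Function.Injective τ) {i : ℕ} {h : G} (X : Exc τ T i h) :
    h ^ 2 ^ i * h ^ 2 ^ i = 1 := by
  rw [← pow_add, ← two_mul, ← pow_succ']
  exact pow_eq_one_of_nil hinj X.nil

omit [CharP k 2] in
theorem Exc.pos (hinj : Function.Injective τ) {i : ℕ} {h : G} (X : Exc τ T i h) : 1 ≤ i := by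
  by_contra hi
  obtain rfl : i = 0 := by omega
  refine X.ne ?_
  have h1 := X.nil
  rw [show (2 : ℕ) ^ (0 + 1) - 1 = 1 from rfl, pow_one, opN, sub_eq_zero] at h1
  rw [pow_zero, pow_one]
  exact hinj (h1.trans (map_one τ).symm)

omit [CharP k 2] in
theorem Exc.conj {i : ℕ} {h : G} (X : Exc τ T i h) {t : G} (ht : t ∈ T) : Exc τ T i (t * h * t⁻¹) := by
  refine ⟨mul_mem (mul_mem ht X.mem) (inv_mem ht), ?_, fun e => X.ne ?_⟩
  · have h1 : ∀ n, opN τ (t * h * t⁻¹) ^ n = τ t * opN τ h ^ n * τ t⁻¹ := by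
      intro n
      induction n with
      | zero => rw [pow_zero, pow_zero, mul_one, ← map_mul, mul_inv_cancel, map_one]
      | succ n ih =>
        have e : opN τ (t * h * t⁻¹) = τ t * opN τ h * τ t⁻¹ := by
          simp only [opN, mul_sub, sub_mul, map_mul, mul_one]
          rw [← map_mul τ t t⁻¹, mul_inv_cancel, map_one]
        rw [pow_succ, ih, e, pow_succ,
          show τ t * opN τ h ^ n * τ t⁻¹ * (τ t * opN τ h * τ t⁻¹) =
            τ t * opN τ h ^ n * (τ t⁻¹ * τ t) * opN τ h * τ t⁻¹ by simp only [mul_assoc],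
          ← map_mul τ, inv_mul_cancel, map_one, mul_one, mul_assoc (τ t)]
    rw [h1, X.nil, mul_zero, zero_mul]
  · rw [conj_pow, conj_eq_one_iff] at e
    exact e

/-- What an exceptional element brings. -/
structure Atom (τ : G →* Module.End k V) (C T : Subgroup G) (i : ℕ) (h : G) (D : Subgroup G)
    (E : Submodule k V) : Prop where
  cut : Cut τ C T (h ^ 2 ^ i) D E
  cen : ∀ u ∈ fix C (h ^ 2 ^ i), Commute h u
  invol : ∀ x ∈ T, x * x = 1 → Commute x (h ^ 2 ^ i) →
    (∀ d ∈ D, Commute x d) ∨ ∀ d ∈ D, Commute (x * h ^ 2 ^ i) d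
  notD : ∃ d ∈ D, ¬ Commute (h ^ 2 ^ i) d
  comm2 : ∀ x ∈ T, Commute x (h ^ 2 ^ i) → ∀ d ∈ D, Commute ⁅h, ⁅h, x⁆⁆ d
  phi : ∃ (A : Type u) (_ : CommGroup A) (φ : ↥(T ⊓ centralizer ({h ^ 2 ^ i} : Set G)) →* A),
    (∀ x : ↥(T ⊓ centralizer ({h ^ 2 ^ i} : Set G)), (x : G) * x = 1 ∨ (∀ d ∈ D, Commute (x : G) d) → φ x = 1) ∧
      ∀ x : ↥(T ⊓ centralizer ({h ^ 2 ^ i} : Set G)), (x : G) = h → φ x ≠ 1

variable [IsAlgClosed k] [FiniteDimensional k V] [Nontrivial V] [Finite G] [hq : Fact q.Prime]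

omit [IsAlgClosed k] [FiniteDimensional k V] [Nontrivial V] in
theorem Exc.mem_centralizer {i : ℕ} {h : G} (X : Exc τ T i h) :
    h ∈ T ⊓ centralizer ({h ^ 2 ^ i} : Set G) :=
  ⟨X.mem, mem_centralizer_singleton_iff.2 ((Commute.refl h).pow_right _).eq⟩

theorem exists_atom (L : Loc q τ C T) {i : ℕ} {h : G} (X : Exc τ T i h) :
    ∃ (D : Subgroup G) (E : Submodule k V), Atom τ C T i h D E := by
  classical
  have hi : 1 ≤ i := X.pos L.inj
  set b := h ^ 2 ^ i with hbdef
  have hbT : b ∈ T := pow_mem X.mem _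
  have hb2 : b * b = 1 := X.sq L.inj
  obtain ⟨D, E, K₀⟩ := exists_cut L hbT hb2 X.ne
  have hDC : D ≤ C := fun u hu => ((K₀.mem_iff u).1 hu).1
  set S := T ⊓ centralizer ({b} : Set G) with hSdef
  have hS2 : IsPGroup 2 S := L.pT.to_le inf_le_left
  have hbS : b ∈ S := ⟨hbT, mem_centralizer_singleton_iff.2 rfl⟩
  have hhS : h ∈ S := X.mem_centralizer
  have hK : ∀ g ∈ D ⊔ S, ∀ v ∈ E, τ g v ∈ E := fun g hg v hv => mem_of_mapStab
    ((sup_le (le_mapStab fun g hg v hv => K₀.simple.2.1 ⟨g, hg⟩ v hv) K₀.stab : D ⊔ S ≤ mapStab τ E) hg) hv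
  set K := D ⊔ S with hKdef
  haveI : Nontrivial E := Submodule.nontrivial_iff_ne_bot.2 K₀.simple.1
  obtain ⟨Z, _, _, π', τ₁, hπ', hinj₁, hτ₁⟩ := exists_image (subRep τ K E hK)
  have hDK : D ≤ K := le_sup_left
  have hSK : S ≤ K := le_sup_right
  have happ : ∀ (x : K) (v : E), ((τ₁ (π' x) v : E) : V) = τ (x : G) v := fun x v => by rw [hτ₁]; rfl
  set C₁ := (D.subgroupOf K).map π' with hC₁
  set T₁ := (S.subgroupOf K).map π' with hT₁
  set a := π' ⟨b, hSK hbS⟩ with ha
  have hqD : IsPGroup q D := L.qC.to_le hDC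
  have hqC₁ : IsPGroup q C₁ := (hqD.comap_of_injective _ Subtype.val_injective).map π'
  have hirr₁ : Irred (τ₁.comp C₁.subtype) := by
    intro U hU
    refine irred_subRep K₀.simple U fun g v hv => ?_
    have h := hU ⟨π' ⟨g, hDK g.2⟩, mem_map_of_mem π' (show (⟨g, hDK g.2⟩ : K) ∈ D.subgroupOf K from g.2)⟩ v hv
    rwa [MonoidHom.comp_apply, Subgroup.coe_subtype, hτ₁] at h
  have hF : Frame q τ₁ C₁ T₁ a := by
    refine ⟨hinj₁, hirr₁, hqC₁, ?_, ?_, ?_, mem_map_of_mem π' (show (⟨b, hSK hbS⟩ : K) ∈ S.subgroupOf K from hbS),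
      ?_, ?_, ?_, ?_⟩
    · rintro _ ⟨x, hx, rfl⟩ _ ⟨y, hy, rfl⟩
      obtain ⟨μ, hμ⟩ := L.class2 x (hDC hx) y (hDC hy)
      refine ⟨μ, ?_⟩
      rw [← map_commutatorElement, hτ₁]
      exact LinearMap.ext fun v => Subtype.ext (LinearMap.congr_fun hμ (v : V))
    · exact (hS2.comap_of_injective _ Subtype.val_injective).map π'
    · rintro _ ⟨t, ht, rfl⟩
      refine mem_normalizer_iff_map_conj_eq.2 (Subgroup.eq_of_le_of_card_ge ?_
        (card_map_of_injective (MulAut.conj (π' t)).injective).ge)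
      rintro _ ⟨_, ⟨x, hx, rfl⟩, rfl⟩
      exact ⟨t * x * t⁻¹, conj_mem_of_normalizer (C := D) (K₀.nrm ht) hx, by simp⟩
    · rintro _ ⟨t, ht, rfl⟩
      exact (show Commute t ⟨b, hSK hbS⟩ from
        Subtype.ext (mem_centralizer_singleton_iff.1 (mem_inf.1 (show (t : G) ∈ S from ht)).2)).map π'
    · rw [ha, ← map_mul, show (⟨b, hSK hbS⟩ : K) * ⟨b, hSK hbS⟩ = 1 from Subtype.ext hb2, map_one]
    · intro h1
      obtain ⟨v, hv, hne⟩ := K₀.moved
      refine hne ?_
      have h2 := happ ⟨b, hSK hbS⟩ ⟨v, hv⟩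
      rw [← ha, h1, map_one] at h2
      exact h2.symm
    · rintro _ ⟨d, hd, rfl⟩ hcomm
      refine sc_of_sq L.q2 hqC₁ (mem_map_of_mem π' hd) ?_
      obtain ⟨μ, hμ⟩ := ((K₀.mem_iff d).1 hd).2
      refine ⟨μ, ?_⟩
      have hxx : π' d * π' d = π' (d * (⟨b, hSK hbS⟩ * d * ⟨b, hSK hbS⟩⁻¹)) := by
        rw [map_mul, map_mul, map_mul, map_inv, ← ha, hcomm.eq, mul_inv_cancel_right]
      rw [hxx, hτ₁]
      exact LinearMap.ext fun v => Subtype.ext (LinearMap.congr_fun hμ (v : V))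
  -- the element on the part
  set θ := π' ⟨h, hSK hhS⟩ with hθ
  have hθT : θ ∈ T₁ := mem_map_of_mem π' (show (⟨h, hSK hhS⟩ : K) ∈ S.subgroupOf K from hhS)
  have hN1 : ∀ n (v : E), ((((opN τ₁ θ) ^ n) v : E) : V) = (opN τ h ^ n) (v : V) := by
    intro n
    induction n with
    | zero => intro v; rfl
    | succ n ih =>
      intro v
      rw [pow_succ, Module.End.mul_apply, ih, pow_succ, Module.End.mul_apply]
      congr 1
      rw [opN_apply, opN_apply, Submodule.coe_sub, hθ, happ]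
  have hθa : θ ^ 2 ^ i = a := by
    rw [hθ, ← map_pow, ha]
    congr 1
  obtain ⟨hdim, hjne⟩ := jordan (U := opN τ₁ θ) (L := 2 ^ i)
    (LinearMap.ext fun v => Subtype.ext (by
      rw [hN1, ← pow_succ', X.nil, LinearMap.zero_apply, LinearMap.zero_apply]; rfl))
    (by
      rw [opN_pow_two_pow, hθa]
      have h1 := finrank_bQuot τ₁ hF.a2
      rw [finrank_bQuot_eq_one L.q2 hqC₁ hirr₁ hF.a2 (hF.nrm hF.aT) hF.fpf] at h1
      have h2 := LinearMap.finrank_range_add_finrank_ker (opN τ₁ a)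
      omega)
    (by
      rw [opN_pow_two_pow, hθa]
      exact fun h0 => hF.ne (hinj₁ (by rw [map_one]; exact sub_eq_zero.1 h0)))
  rw [← pow_succ'] at hdim
  obtain ⟨j, hj⟩ := finrank_eq_pow (K := k) (Nat.card C₁) C₁ hqC₁ le_rfl E (τ₁.comp C₁.subtype) hirr₁
  have hj1 : j = 1 := exp_eq_one hq.out L.q2 (Nat.succ_le_succ hi) (by rw [← hj, hdim])
  rw [hj1, pow_one] at hj
  have hq' : q = 2 ^ (i + 1) - 1 := by rw [← hj, hdim]
  have huniq : ∀ t ∈ T₁, t * t = 1 → t = 1 ∨ t = a := fun t ht ht2 =>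
    eq_of_sq_of_prime_degree hF L.q2 hj ht ht2
  -- the image of the centraliser
  let χ : S →* T₁ :=
    { toFun := fun x => ⟨π' ⟨x, hSK x.2⟩, mem_map_of_mem π' (show (⟨x, hSK x.2⟩ : K) ∈ S.subgroupOf K from x.2)⟩
      map_one' := Subtype.ext (map_one π')
      map_mul' := fun x y => Subtype.ext (map_mul π' ⟨x, hSK x.2⟩ ⟨y, hSK y.2⟩) }
  haveI := Fintype.ofFinite D
  have hker : ∀ x : S, χ x = 1 → ∀ d ∈ D, Commute (x : G) d := by
    intro x hx d hd
    have hz : ⁅(x : G), d⁆ ∈ D := by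
      rw [commutatorElement_def]
      exact D.mul_mem (conj_mem_of_normalizer (C := D) (K₀.nrm x.2) hd) (D.inv_mem hd)
    refine commutatorElement_eq_one_iff_commute.1 ?_
    by_contra hne
    have hne' : (τ.comp D.subtype) ⟨_, hz⟩ ≠ 1 := fun h0 => hne (L.inj (h0.trans (map_one τ).symm))
    obtain ⟨W, hW, w, hwW, hw⟩ := exists_simple_nontrivial (card_ne_zero (k := k) L.q2 hqD) hne'
    obtain ⟨f, hf⟩ := K₀.allIso W hW
    obtain ⟨e, he⟩ := f.surjective ⟨w, hwW⟩
    have h1 : π' ⁅(⟨x, hSK x.2⟩ : K), ⟨d, hDK hd⟩⁆ = 1 := by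
      rw [map_commutatorElement, show π' ⟨x, hSK x.2⟩ = 1 from congrArg Subtype.val hx, commutatorElement_one_left]
    have h2 : (e : V) = τ ⁅(x : G), d⁆ e := by
      have h3 := happ ⁅(⟨x, hSK x.2⟩ : K), ⟨d, hDK hd⟩⁆ e
      rw [h1, map_one] at h3
      exact h3
    have h4 := hf ⟨_, hz⟩ e e h2
    rw [he] at h4
    exact hw h4.symm
  have hker' : ∀ x : S, (∀ d ∈ D, Commute (x : G) d) → χ x = 1 := by
    intro x hx
    refine Subtype.ext ?_
    obtain ⟨r, hr⟩ := hF.pT (χ x)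
    refine Sc.eq_one hinj₁ (j := r) (sc_of_commute_all hirr₁ ?_) (congrArg Subtype.val hr)
    rintro _ ⟨d, hd, rfl⟩
    exact (show Commute (⟨x, hSK x.2⟩ : K) d from Subtype.ext (hx d hd).eq).map π'
  have hnotD : ∃ d ∈ D, ¬ Commute b d := by
    by_contra hall
    push Not at hall
    exact hF.ne (congrArg Subtype.val (hker' ⟨b, hbS⟩ hall))
  -- the size of the image
  obtain ⟨s, hs⟩ := IsPGroup.iff_card.1 hF.pT
  have hcard : Nat.card T₁ ∣ 2 ^ (i + 2) := by
    have h1 := card_dvd_of_prime_degree hF L.q2 hj huniq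
    have hp : 1 ≤ 2 ^ i := Nat.one_le_two_pow
    have h2 : q ^ 2 - 1 = 2 ^ (i + 2) * (2 ^ i - 1) := by
      obtain ⟨r, hr⟩ : ∃ r, 2 ^ i = r + 1 := ⟨2 ^ i - 1, by omega⟩
      rw [hq', show 2 ^ (i + 2) = 2 ^ i * 4 by ring, pow_succ 2 i, hr,
        show (r + 1) * 2 - 1 = 2 * r + 1 by omega, show r + 1 - 1 = r by omega,
        show (2 * r + 1) ^ 2 = (r + 1) * 4 * r + 1 by ring]
      omega
    rw [h2] at h1
    refine Nat.Coprime.dvd_of_dvd_mul_right ?_ h1
    rw [hs]
    refine Nat.Coprime.pow_left s (Nat.prime_two.coprime_iff_not_dvd.2 fun hd => ?_)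
    have h3 : 2 ∣ 2 ^ i := dvd_pow_self 2 (by omega)
    omega
  set θ₁ : T₁ := ⟨θ, hθT⟩ with hθ₁
  have hord : orderOf θ₁ = 2 ^ (i + 1) := by
    rw [← Subgroup.orderOf_coe]
    haveI : Fact (Nat.Prime 2) := ⟨Nat.prime_two⟩
    refine orderOf_eq_prime_pow (fun h0 => hF.ne (hθa.symm.trans h0)) ?_
    rw [pow_succ, pow_mul, hθa, pow_two, hF.a2]
  have hnor : (zpowers θ₁).Normal := by
    have h1 : (zpowers θ₁).index ∣ 2 := by
      refine Nat.dvd_of_mul_dvd_mul_left (Nat.two_pow_pos (i + 1)) ?_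
      rw [← hord, ← Nat.card_zpowers, Subgroup.card_mul_index, Nat.card_zpowers, hord, ← pow_succ]
      exact hcard
    rcases (Nat.dvd_prime Nat.prime_two).1 h1 with h | h
    · rw [Subgroup.index_eq_one.1 h]; infer_instance
    · exact Subgroup.normal_of_index_eq_two h
  refine ⟨D, E, K₀, ?_, ?_, hnotD, ?_, ?_⟩
  · -- the fixed operators are centralised
    intro u hu
    set N := opN τ h with hN
    set Δ := opN (adEnd τ) h with hΔ
    have hΔ' : ∀ A, Δ A = τ h * (A * τ h⁻¹) - A := fun A => rfl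
    let IsC : Module.End k V → Prop := fun A => ∀ d ∈ D, A * τ d = τ d * A
    have hclosed : ∀ A, IsC A → IsC (Δ A) := by
      intro A hA d hd
      have hd' : h⁻¹ * d * h ∈ D := (mem_normalizer_iff''.1 (K₀.nrm hhS) d).1 hd
      have e1 : τ h⁻¹ * τ d = τ (h⁻¹ * d * h) * τ h⁻¹ := by
        rw [← map_mul, ← map_mul, mul_inv_cancel_right]
      rw [hΔ', sub_mul, mul_sub, hA d hd]
      congr 1
      rw [mul_assoc, mul_assoc A, e1, ← mul_assoc A, hA _ hd', ← mul_assoc, ← mul_assoc, ← map_mul,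
        show h * (h⁻¹ * d * h) = d * h by group, map_mul, mul_assoc, mul_assoc]
    have hclosedn : ∀ (m : ℕ) A, IsC A → IsC ((Δ ^ m) A) := by
      intro m
      induction m with
      | zero => intro A hA; exact hA
      | succ m ih => intro A hA; rw [pow_succ', Module.End.mul_apply]; exact hclosed _ (ih A hA)
    have hnilΔ : Δ ^ 2 ^ (i + 1) = 0 := by
      rw [hΔ, opN_pow_two_pow, pow_eq_one_of_nil L.inj X.nil, opN, map_one, sub_self]
    have hNE : ∀ (n : ℕ), ∀ e ∈ E, (N ^ n) e ∈ E := by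
      intro n
      induction n with
      | zero => intro e he; exact he
      | succ n ih =>
        intro e he
        rw [pow_succ', Module.End.mul_apply, hN, opN_apply]
        exact E.sub_mem (hK h (hSK hhS) _ (ih e he)) (ih e he)
    obtain ⟨e₁, he₁, hne₁⟩ : ∃ e ∈ E, (N ^ (2 ^ (i + 1) - 2)) e ≠ 0 := by
      by_contra hall
      push Not at hall
      refine hjne (LinearMap.ext fun v => Subtype.ext ?_)
      rw [hN1, ← pow_succ', hall v v.2]
      rfl
    have hkey : ∀ A, IsC A → Δ (Δ A) = 0 → Δ A = 0 := by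
      intro A hA hA0
      set A₀ := Δ A with hA₀
      have hc0 : IsC A₀ := hclosed A hA
      have hA₀h : Commute (τ h) A₀ := by
        rw [hΔ', sub_eq_zero] at hA0
        show τ h * A₀ = A₀ * τ h
        conv_rhs => rw [← hA0, mul_assoc, mul_assoc, ← map_mul, inv_mul_cancel, map_one, mul_one]
      have hA₀N : Commute N A₀ := hA₀h.sub_left (Commute.one_left _)
      have hmove : τ h * A = A * τ h + A₀ * τ h := by
        rw [← add_mul, hA₀, hΔ', add_sub_cancel, mul_assoc, mul_assoc, ← map_mul, inv_mul_cancel, map_one, mul_one]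
      have hstep : N * A = A * N + A₀ * τ h := by
        rw [hN, opN, sub_mul, mul_sub, one_mul, mul_one, hmove]
        abel
      have hform : ∀ n : ℕ, N ^ (n + 1) * A = A * N ^ (n + 1) + (n + 1) • (A₀ * τ h * N ^ n) := by
        intro n
        induction n with
        | zero => rw [zero_add, pow_one, pow_zero, mul_one, one_smul]; exact hstep
        | succ n ih =>
          have hτN : Commute (τ h) N := opN_commute (Commute.refl h)
          have e1 : N * (A₀ * τ h * N ^ n) = A₀ * τ h * N ^ (n + 1) := by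
            rw [← mul_assoc, ← mul_assoc, hA₀N.eq, mul_assoc A₀, ← hτN.eq, pow_succ']
            simp only [mul_assoc]
          rw [pow_succ' N (n + 1), mul_assoc, ih, mul_add, ← mul_assoc, hstep, mul_smul_comm, e1, add_mul,
            ← pow_succ', mul_assoc A, ← pow_succ', add_assoc, add_smul (n + 1) 1, one_smul, add_comm ((n + 1) • _)]
      obtain ⟨r, hr⟩ : ∃ r, 2 ^ (i + 1) - 2 = 2 * r := ⟨2 ^ i - 1, by rw [pow_succ]; omega⟩
      set n := 2 ^ (i + 1) - 2 with hn
      have hn1 : n + 1 = 2 ^ (i + 1) - 1 := by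
        have : 2 ≤ 2 ^ (i + 1) := Nat.le_self_pow (by omega) 2
        omega
      have h0 := hform n
      rw [hn1, X.nil, zero_mul, mul_zero, zero_add, ← hn1, hr, ← Nat.cast_smul_eq_nsmul k, Nat.cast_add,
        Nat.cast_mul, Nat.cast_ofNat, CharTwo.two_eq_zero, zero_mul, zero_add, Nat.cast_one, one_smul, ← hr] at h0
      have hA₀n : A₀ * N ^ n = 0 := by
        have h1 : τ h⁻¹ * (A₀ * τ h * N ^ n) = 0 := by rw [← h0, mul_zero]
        rwa [← hA₀h.eq, ← mul_assoc, ← mul_assoc, ← map_mul, inv_mul_cancel, map_one, one_mul] at h1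
      have hclaim : ∀ (m : ℕ) (A' : Module.End k V), IsC A' → (Δ ^ m) A' = 0 → ∀ e ∈ E, A₀ (A' e) = 0 := by
        intro m
        induction m with
        | zero =>
          intro A' _ h0' e _
          rw [pow_zero, Module.End.one_apply] at h0'
          rw [h0', LinearMap.zero_apply, map_zero]
        | succ m ih =>
          intro A' hA' h0' e he
          rw [pow_succ, Module.End.mul_apply] at h0'
          have hE' := ih _ (hclosed A' hA') h0'
          have hB : ∀ e ∈ E, A₀ (A' (τ h e)) = τ h (A₀ (A' e)) := by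
            intro e he
            have e1 : τ h (A₀ (A' e)) = A₀ (τ h (A' e)) := LinearMap.congr_fun hA₀h.eq (A' e)
            have e2 : (Δ A') (τ h e) = τ h (A' e) - A' (τ h e) := by
              rw [hΔ', LinearMap.sub_apply, Module.End.mul_apply, Module.End.mul_apply, inv_apply_apply]
            have e3 := hE' _ (hK h (hSK hhS) e he)
            rw [e2, map_sub, sub_eq_zero] at e3
            rw [e1, e3]
          have hBN : ∀ (r : ℕ), ∀ e ∈ E, A₀ (A' ((N ^ r) e)) = (N ^ r) (A₀ (A' e)) := by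
            intro r
            induction r with
            | zero => intro e _; rfl
            | succ r ihr =>
              intro e he
              rw [pow_succ', Module.End.mul_apply, hN, opN_apply, map_sub, map_sub, hB _ (hNE r e he), ← hN,
                ihr e he, Module.End.mul_apply, hN, opN_apply]
          have hvan : ∀ e ∈ E, A₀ (A' ((N ^ n) e)) = 0 := fun e he => by
            rw [hBN n e he, ← Module.End.mul_apply, (hA₀N.pow_left n).eq, hA₀n, LinearMap.zero_apply]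
          have hsub : E ⊓ LinearMap.ker (A₀ * A') = E := by
            refine (K₀.simple.2.2 _ inf_le_left fun d v hv => ⟨K₀.simple.2.1 d v hv.1, ?_⟩).resolve_left fun hb => ?_
            · have e1 : A₀ * A' * τ (d : G) = τ (d : G) * (A₀ * A') := by
                rw [mul_assoc, hA' d d.2, ← mul_assoc, hc0 d d.2, mul_assoc]
              show (A₀ * A') (τ (d : G) v) = 0
              rw [← Module.End.mul_apply, e1, Module.End.mul_apply, LinearMap.mem_ker.1 hv.2, map_zero]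
            · have h1 : (N ^ n) e₁ ∈ E ⊓ LinearMap.ker (A₀ * A') :=
                ⟨hNE n e₁ he₁, LinearMap.mem_ker.2 (hvan e₁ he₁)⟩
              rw [hb, Submodule.mem_bot] at h1
              exact hne₁ h1
          exact LinearMap.mem_ker.1 (hsub.ge he).2
      -- the translates of `E` span
      let U : Submodule k V := ⨅ x : ↥(fix C b), LinearMap.ker (A₀ * τ (x : G))
      have hmemU : ∀ v, v ∈ U ↔ ∀ x ∈ fix C b, A₀ (τ x v) = 0 := fun v => by
        simp only [U, Submodule.mem_iInf, LinearMap.mem_ker, Module.End.mul_apply, Subtype.forall]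
      have hEU : E ≤ U := fun e he => (hmemU e).2 fun x hx => hclaim (2 ^ (i + 1)) (τ x)
        (fun d hd => by rw [← map_mul, ← map_mul, (K₀.commD x hx d hd).eq])
        (by rw [hnilΔ, LinearMap.zero_apply]) e he
      have hUtop : U = ⊤ := (L.irr U fun g v hv => K₀.gen U (fun x hx v hv => (hmemU _).2 fun y hy => by
          rw [← Module.End.mul_apply (τ y), ← map_mul]
          exact (hmemU v).1 hv _ (mul_mem hy hx)) (fun d hd v hv => (hmemU _).2 fun y hy => by
          rw [← Module.End.mul_apply (τ y), ← map_mul, (K₀.commD y hy d hd).eq, map_mul, Module.End.mul_apply,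
            ← Module.End.mul_apply A₀, hc0 d hd, Module.End.mul_apply, (hmemU v).1 hv y hy, map_zero]) g g.2 v
          hv).resolve_left fun hb => K₀.simple.1 (le_bot_iff.1 (hb ▸ hEU))
      refine LinearMap.ext fun v => ?_
      have h1 := (hmemU v).1 (hUtop.ge Submodule.mem_top) 1 (one_mem _)
      rwa [map_one, Module.End.one_apply] at h1
    have hdown : ∀ (m : ℕ) A, IsC A → (Δ ^ (m + 1)) A = 0 → Δ A = 0 := by
      intro m
      induction m with
      | zero => intro A _ h0; rwa [zero_add, pow_one] at h0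
      | succ m ih =>
        intro A hA h0
        rw [pow_succ', Module.End.mul_apply, pow_succ', Module.End.mul_apply] at h0
        refine ih A hA ?_
        rw [pow_succ', Module.End.mul_apply]
        exact hkey _ (hclosedn m A hA) h0
    have hu0 : Δ (τ u) = 0 := hdown (2 ^ (i + 1)) (τ u)
      (fun d hd => by rw [← map_mul, ← map_mul, (K₀.commD u hu d hd).eq])
      (by rw [pow_succ', hnilΔ, mul_zero, LinearMap.zero_apply])
    rw [hΔ', sub_eq_zero, ← map_mul, ← map_mul] at hu0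
    have h1 := L.inj hu0
    rw [← mul_assoc] at h1
    exact mul_inv_eq_iff_eq_mul.1 h1
  · -- involutions
    intro x hx hx2 hxb
    have hxS : x ∈ S := ⟨hx, mem_centralizer_singleton_iff.2 hxb.eq⟩
    rcases huniq (χ ⟨x, hxS⟩) (χ ⟨x, hxS⟩).2 (by
      rw [← Subgroup.coe_mul, ← map_mul, show (⟨x, hxS⟩ : S) * ⟨x, hxS⟩ = 1 from Subtype.ext hx2, map_one,
        OneMemClass.coe_one]) with h1 | h1
    · exact Or.inl (hker ⟨x, hxS⟩ (Subtype.ext h1))
    · refine Or.inr (hker (⟨x, hxS⟩ * ⟨b, hbS⟩) (Subtype.ext ?_))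
      rw [map_mul, Subgroup.coe_mul, h1, OneMemClass.coe_one]
      exact hF.a2
  · -- double commutators
    intro x hx hxb d hd
    have hxS : x ∈ S := ⟨hx, mem_centralizer_singleton_iff.2 hxb.eq⟩
    refine hker ⁅(⟨h, hhS⟩ : S), ⁅(⟨h, hhS⟩ : S), ⟨x, hxS⟩⁆⁆ ?_ d hd
    rw [map_commutatorElement, map_commutatorElement,
      show χ ⟨h, hhS⟩ = θ₁ from Subtype.ext rfl, commutatorElement_eq_one_iff_commute]
    have h1 : ⁅θ₁, χ ⟨x, hxS⟩⁆ ∈ zpowers θ₁ := by
      rw [commutatorElement_def, mul_assoc θ₁, mul_assoc θ₁]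
      exact mul_mem (mem_zpowers _) (hnor.conj_mem _ (inv_mem (mem_zpowers _)) _)
    obtain ⟨z, hz⟩ := mem_zpowers_iff.1 h1
    rw [← hz]
    exact (Commute.refl θ₁).zpow_right z
  · -- a character
    set H₂ := zpowers (θ₁ ^ 2) with hH₂
    haveI hH₂n : H₂.Normal := ⟨fun y hy g => by
      obtain ⟨z, rfl⟩ := mem_zpowers_iff.1 hy
      obtain ⟨l, hl⟩ := mem_zpowers_iff.1 (hnor.conj_mem _ (mem_zpowers θ₁) g)
      rw [← conj_zpow, show g * θ₁ ^ 2 * g⁻¹ = (θ₁ ^ 2) ^ l by
        rw [← conj_pow, ← hl, ← zpow_natCast, ← zpow_mul, ← zpow_natCast θ₁, ← zpow_mul, mul_comm]]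
      exact zpow_mem (zpow_mem (mem_zpowers _) l) z⟩
    have hordH : Nat.card H₂ = 2 ^ i := by
      rw [hH₂, Nat.card_zpowers, orderOf_pow, hord, pow_succ,
        Nat.gcd_eq_right (dvd_mul_left 2 _), Nat.mul_div_cancel _ two_pos]
    have hidx : Nat.card (T₁ ⧸ H₂) ∣ 2 ^ 2 := by
      rw [← Subgroup.index_eq_card]
      refine Nat.dvd_of_mul_dvd_mul_left (Nat.two_pow_pos i) ?_
      rw [← hordH, Subgroup.card_mul_index, hordH, ← pow_add]
      exact hcard
    have hcomm : ∀ x y : T₁ ⧸ H₂, x * y = y * x := by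
      haveI : Fact (Nat.Prime 2) := ⟨Nat.prime_two⟩
      obtain ⟨r, hr, e⟩ := (Nat.dvd_prime_pow Nat.prime_two).1 hidx
      interval_cases r
      · haveI := (Nat.card_eq_one_iff_unique.1 e).1
        exact fun x y => Subsingleton.elim _ _
      · haveI := isCyclic_of_prime_card (α := T₁ ⧸ H₂) (p := 2) e
        exact fun x y => (IsCyclic.commGroup (α := T₁ ⧸ H₂)).mul_comm x y
      · exact fun x y => (IsPGroup.isMulCommutative_of_card_eq_prime_sq e).is_comm.comm x y
    letI : CommGroup (T₁ ⧸ H₂) := { (inferInstance : Group (T₁ ⧸ H₂)) with mul_comm := hcomm }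
    refine ⟨T₁ ⧸ H₂, inferInstance, (QuotientGroup.mk' H₂).comp χ, fun x hx => ?_, fun x hx h1 => ?_⟩
    · show ((χ x : T₁) : T₁ ⧸ H₂) = 1
      rw [QuotientGroup.eq_one_iff]
      rcases hx with hx | hx
      · rcases huniq (χ x) (χ x).2 (by
          rw [← Subgroup.coe_mul, ← map_mul, show x * x = 1 from Subtype.ext hx, map_one,
            OneMemClass.coe_one]) with h2 | h2
        · rw [show χ x = 1 from Subtype.ext h2]; exact one_mem _
        · rw [show χ x = (θ₁ ^ 2) ^ 2 ^ (i - 1) from Subtype.ext (by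
            rw [h2, ← pow_mul, ← pow_succ', show i - 1 + 1 = i by omega]; exact hθa.symm)]
          exact pow_mem (mem_zpowers _) _
      · rw [hker' x hx]; exact one_mem _
    · rw [MonoidHom.comp_apply, QuotientGroup.mk'_apply, QuotientGroup.eq_one_iff,
        show χ x = θ₁ from Subtype.ext (congrArg π' (Subtype.ext hx))] at h1
      have h2 := Subgroup.orderOf_dvd_natCard H₂ h1
      rw [hord, hordH] at h2
      exact absurd (Nat.le_of_dvd (Nat.two_pow_pos i) h2) (not_le.2 (Nat.pow_lt_pow_right one_lt_two (by omega)))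

/-- Elements trivial on both factors are trivial. -/
theorem Atom.eq_one (L : Loc q τ C T) {i : ℕ} {h : G} (X : Exc τ T i h) {D : Subgroup G} {E : Submodule k V}
    (A : Atom τ C T i h D E) {x : G} (hx : x ∈ T) (h1 : ∀ u ∈ fix C (h ^ 2 ^ i), Commute x u)
    (h2 : ∀ d ∈ D, Commute x d) : x = 1 := by
  obtain ⟨j, hj⟩ := L.pT ⟨x, hx⟩
  exact Sc.eq_one L.inj (j := j)
    (sc_of_commute_all L.irr (commute_all_of_cut L (pow_mem X.mem _) (X.sq L.inj) A.cut h1 h2))
    (congrArg Subtype.val hj)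

omit [IsAlgClosed k] [FiniteDimensional k V] [Nontrivial V] [Finite G] [CharP k 2] in
/-- Commutators with an element fixing a subgroup pointwise. -/
theorem commutator_fix {S : Set G} {x y : G} (hx : ∀ u ∈ S, Commute x u) (hy : ∀ u ∈ S, y * u * y⁻¹ ∈ S)
    (hy' : ∀ u ∈ S, y⁻¹ * u * y ∈ S) : ∀ u ∈ S, Commute ⁅x, y⁆ u := by
  intro u hu
  have e1 : x * (y⁻¹ * u * y) * x⁻¹ = y⁻¹ * u * y := by rw [(hx _ (hy' u hu)).eq, mul_inv_cancel_right]
  have e2 : x⁻¹ * (y⁻¹ * u * y) * x = y⁻¹ * u * y := by rw [(hx _ (hy' u hu)).inv_left.eq, inv_mul_cancel_right]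
  refine mul_inv_eq_iff_eq_mul.1 ?_
  calc ⁅x, y⁆ * u * ⁅x, y⁆⁻¹ = x * (y * (x⁻¹ * (y⁻¹ * u * y) * x) * y⁻¹) * x⁻¹ := by
        rw [commutatorElement_def]; group
    _ = x * u * x⁻¹ := by rw [e2]; group
    _ = u := by rw [(hx u hu).eq, mul_inv_cancel_right]

omit [IsAlgClosed k] [FiniteDimensional k V] [Nontrivial V] in
theorem conj_fix (L : Loc q τ C T) {b y : G} (hy : y ∈ T) (hyb : Commute y b) :
    (∀ u ∈ (fix C b : Set G), y * u * y⁻¹ ∈ (fix C b : Set G)) ∧
      ∀ u ∈ (fix C b : Set G), y⁻¹ * u * y ∈ (fix C b : Set G) := by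
  constructor <;> intro u hu <;> obtain ⟨huC, hub⟩ := mem_fix.1 hu
  · exact mem_fix.2 ⟨conj_mem_of_normalizer (L.nrm hy) huC, (hyb.mul_left hub).mul_left hyb.inv_left⟩
  · exact mem_fix.2 ⟨(mem_normalizer_iff''.1 (L.nrm hy) u).1 huC, (hyb.inv_left.mul_left hub).mul_left hyb⟩

section orth

variable {i : ℕ} {h h' : G} {D D' : Subgroup G} {E E' : Submodule k V}

theorem half_orth (L : Loc q τ C T) (X : Exc τ T i h) (X' : Exc τ T i h') (A : Atom τ C T i h D E)
    (A' : Atom τ C T i h' D' E') (hne : h ^ 2 ^ i ≠ h' ^ 2 ^ i) (hcomm : Commute (h ^ 2 ^ i) (h' ^ 2 ^ i)) :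
    ∀ d ∈ D', Commute (h ^ 2 ^ i) d := by
  set b := h ^ 2 ^ i with hb
  set b' := h' ^ 2 ^ i with hb'
  have hbT : b ∈ T := pow_mem X.mem _
  have hb'T : b' ∈ T := pow_mem X'.mem _
  rcases A'.invol b hbT (X.sq L.inj) hcomm with h1 | h1
  · exact h1
  exfalso
  -- the second involution fixes what the first fixes
  have hfix : ∀ u ∈ fix C b, Commute b' u := by
    intro u hu
    obtain ⟨huC, hub⟩ := mem_fix.1 hu
    set u' := (b' * u * b'⁻¹)⁻¹ * u with hu'
    have hu'D : u' ∈ D' := A'.cut.proj u huC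
    have hcu : b' * u * b'⁻¹ ∈ fix C b := (conj_fix L hb'T hcomm.symm).1 u hu
    have hu'f : u' ∈ fix C b := mul_mem (inv_mem hcu) hu
    have hc : Commute b' u' := by
      have h2 : Commute (b * (b * b')) u' := (mem_fix.1 hu'f).2.symm.mul_left (h1 u' hu'D)
      rwa [← mul_assoc, X.sq L.inj, one_mul] at h2
    have hsc : Sc τ u' := by
      refine sc_of_sq L.q2 L.qC (mem_fix.1 hu'f).1 ?_
      have h3 := ((A'.cut.mem_iff u').1 hu'D).2
      rwa [hc.eq, mul_inv_cancel_right] at h3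
    refine commute_of_sc L.inj L.q2 L.qC (X'.sq L.inj) (L.nrm hb'T) huC ?_
    have h4 := hsc.inv
    rwa [hu', mul_inv_rev, inv_inv] at h4
  rcases A.invol b' hb'T (X'.sq L.inj) hcomm.symm with h2 | h2
  · exact X'.ne (A.eq_one L X hb'T hfix h2)
  · refine hne ?_
    have h3 : b' * b = 1 :=
      A.eq_one L X (mul_mem hb'T hbT) (fun u hu => (hfix u hu).mul_left (mem_fix.1 hu).2.symm) h2
    exact ((eq_inv_of_mul_eq_one_left h3).trans (inv_eq_of_mul_eq_one_right (X.sq L.inj))).symm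

/-- Different commuting atoms live apart. -/
theorem orth (L : Loc q τ C T) (X : Exc τ T i h) (X' : Exc τ T i h') (A : Atom τ C T i h D E)
    (A' : Atom τ C T i h' D' E') (hne : h ^ 2 ^ i ≠ h' ^ 2 ^ i) (hcomm : Commute (h ^ 2 ^ i) (h' ^ 2 ^ i)) :
    Commute h h' ∧ ∀ d ∈ D, Commute h' d := by
  set b := h ^ 2 ^ i with hb
  set b' := h' ^ 2 ^ i with hb'
  have hbT : b ∈ T := pow_mem X.mem _
  have hb'T : b' ∈ T := pow_mem X'.mem _
  have hbD' : ∀ d ∈ D', Commute b d := half_orth L X X' A A' hne hcomm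
  have hb'D : ∀ d ∈ D, Commute b' d := half_orth L X' X A' A (Ne.symm hne) hcomm.symm
  have hDf : ∀ d ∈ D, d ∈ fix C b' := fun d hd => mem_fix.2 ⟨((A.cut.mem_iff d).1 hd).1, (hb'D d hd).symm⟩
  have hD'f : ∀ d ∈ D', d ∈ fix C b := fun d hd => mem_fix.2 ⟨((A'.cut.mem_iff d).1 hd).1, (hbD' d hd).symm⟩
  have key : ∀ (x : G), Exc τ T i x → ∀ (Dx : Subgroup G) (Ex : Submodule k V), Atom τ C T i x Dx Ex → ∀ y ∈ T,
      Commute y (x ^ 2 ^ i) → (∀ d ∈ Dx, Commute y d) → Commute x y := by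
    intro x Xx Dx Ex Ax y hy hyb hyD
    refine commutatorElement_eq_one_iff_commute.1 (Ax.eq_one L Xx ?_ ?_ ?_)
    · rw [commutatorElement_def]
      exact mul_mem (mul_mem (mul_mem Xx.mem hy) (inv_mem Xx.mem)) (inv_mem hy)
    · exact fun u hu => commutator_fix (S := (fix C (x ^ 2 ^ i) : Set G)) Ax.cen (conj_fix L hy hyb).1
        (conj_fix L hy hyb).2 u hu
    · intro d hd
      have hn := Ax.cut.nrm Xx.mem_centralizer
      have h1 := commutator_fix (S := (Dx : Set G)) hyD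
        (fun u hu => conj_mem_of_normalizer hn hu) (fun u hu => (mem_normalizer_iff''.1 hn u).1 hu) d hd
      rw [← commutatorElement_inv]
      exact h1.inv_left
  have h'D : ∀ d ∈ D, Commute h' d := fun d hd => A'.cen d (hDf d hd)
  have hhb' : Commute h b' := key h X D E A b' hb'T hcomm.symm hb'D
  have hh'b : Commute h' b := key h' X' D' E' A' b hbT hcomm hbD'
  exact ⟨key h X D E A h' X'.mem hh'b h'D, h'D⟩

end orth

end Cfsg.Agent.TwoExp
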