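import Cfsg.Agent.TwoLength.Decomp
import Cfsg.Agent.HallHigman.Jordan

/-!
Linear algebra for operators of 2-power order in characteristic two: the sum of the powers, the
single Jordan block, conjugation, and two facts on prime powers next to powers of two.
-/

set_option autoImplicit false

open Polynomial

namespace Cfsg.Agent.TwoExp

open Cfsg.Agent.TwoLength Cfsg.Agent.HallHigman

universe u v w

section ring

variable (k : Type w) [Field k] [CharP k 2] {R : Type*} [Ring R] [Algebra k R]

include k in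
theorem sub_one_pow_two_pow (A : R) (m : ℕ) : (A - 1) ^ 2 ^ m = A ^ 2 ^ m - 1 := by
  have h : ((X : k[X]) - 1) ^ 2 ^ m = X ^ 2 ^ m - 1 := by rw [sub_pow_char_pow, one_pow]
  simpa using congrArg (aeval A) h

include k in
theorem sub_one_pow_pred (A : R) (m : ℕ) : (A - 1) ^ (2 ^ m - 1) = ∑ l ∈ Finset.range (2 ^ m), A ^ l := by
  have h : ((X : k[X]) - 1) ^ (2 ^ m - 1) = ∑ l ∈ Finset.range (2 ^ m), X ^ l := by
    refine mul_right_cancel₀ (X_sub_C_ne_zero (1 : k)) ?_
    rw [map_one, ← pow_succ, Nat.sub_add_cancel Nat.one_le_two_pow, geom_sum_mul, sub_pow_char_pow, one_pow]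
  simpa using congrArg (aeval A) h

end ring

variable {k : Type w} [Field k] [CharP k 2] {V : Type v} [AddCommGroup V] [Module k V] {G : Type u} [Group G]
  {τ : G →* Module.End k V}

theorem opN_pow_two_pow (g : G) (m : ℕ) : opN τ g ^ 2 ^ m = opN τ (g ^ 2 ^ m) := by
  rw [opN, opN, sub_one_pow_two_pow k, map_pow]

theorem opN_pow_pred (g : G) (m : ℕ) :
    opN τ g ^ (2 ^ m - 1) = ∑ l ∈ Finset.range (2 ^ m), τ (g ^ l) := by
  rw [opN, sub_one_pow_pred k]
  exact Finset.sum_congr rfl fun l _ => (map_pow τ g l).symm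

/-- Short differences give short order. -/
theorem pow_eq_one_of_nil (hinj : Function.Injective τ) {g : G} {m : ℕ}
    (h : opN τ g ^ (2 ^ m - 1) = 0) : g ^ 2 ^ m = 1 := by
  refine hinj ?_
  have h1 : opN τ (g ^ 2 ^ m) = 0 := by
    rw [← opN_pow_two_pow, show 2 ^ m = 2 ^ m - 1 + 1 from (Nat.sub_add_cancel Nat.one_le_two_pow).symm,
      pow_succ, h, zero_mul]
  rw [map_one]
  exact sub_eq_zero.1 h1

omit [CharP k 2] in
theorem opN_commute {g x : G} (h : Commute x g) : Commute (τ x) (opN τ g) :=
  (h.map τ).sub_right (Commute.one_right _)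

omit [CharP k 2] in
/-- A single block. -/
theorem jordan [FiniteDimensional k V] {U : Module.End k V} {L : ℕ}
    (h0 : U ^ (2 * L - 1) = 0)
    (hd : Module.finrank k (LinearMap.ker (U ^ L)) = Module.finrank k (LinearMap.range (U ^ L)) + 1)
    (hne : U ^ L ≠ 0) :
    Module.finrank k V = 2 * L - 1 ∧ U ^ (2 * L - 2) ≠ 0 := by
  have hL : 1 ≤ L := by
    by_contra h
    obtain rfl : L = 0 := by omega
    exact hne (by simpa using h0)
  have hLL : L ≤ 2 * L - 1 := by omega
  -- one line in the kernel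
  have hker : Module.finrank k (LinearMap.ker U) ≤ 1 := by
    let f : LinearMap.ker (U ^ L) →ₗ[k] V := U.comp (LinearMap.ker (U ^ L)).subtype
    have hr : LinearMap.range (U ^ L) ≤ LinearMap.range f := by
      rintro _ ⟨v, rfl⟩
      refine ⟨⟨(U ^ (L - 1)) v, ?_⟩, ?_⟩
      · rw [LinearMap.mem_ker, ← Module.End.mul_apply, ← pow_add, show L + (L - 1) = 2 * L - 1 by omega, h0,
          LinearMap.zero_apply]
      · show U ((U ^ (L - 1)) v) = (U ^ L) v
        rw [← Module.End.mul_apply, ← pow_succ', Nat.sub_add_cancel hL]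
    have h1 := LinearMap.finrank_range_add_finrank_ker f
    have h2 := Submodule.finrank_mono hr
    have h3 : Module.finrank k (LinearMap.ker U) ≤ Module.finrank k (LinearMap.ker f) := by
      refine LinearMap.finrank_le_finrank_of_injective (f :=
        { toFun := fun v => (⟨⟨v.1, ?_⟩, ?_⟩ : LinearMap.ker f), map_add' := ?_, map_smul' := ?_ }) ?_
      · rw [LinearMap.mem_ker, ← Nat.sub_add_cancel hL, pow_succ, Module.End.mul_apply, LinearMap.mem_ker.1 v.2,
          map_zero]
      · exact LinearMap.mem_ker.1 v.2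
      · exact fun a b => rfl
      · exact fun a b => rfl
      · intro a b hab
        have h := congrArg (fun x : LinearMap.ker f => ((x : LinearMap.ker (U ^ L)) : V)) hab
        exact Subtype.ext h
    omega
  have hle := finrank_ker_pow_le hker
  -- the chain is strict
  have hge : ∀ j, j ≤ L + 1 → j ≤ Module.finrank k (LinearMap.ker (U ^ j)) := by
    intro j
    induction j with
    | zero => intro _; exact Nat.zero_le _
    | succ j ih =>
      intro hj
      have hlt : LinearMap.ker (U ^ j) < LinearMap.ker (U ^ (j + 1)) := by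
        refine lt_of_le_of_ne ?_ fun h => hne ?_
        · rw [pow_succ']
          exact fun v hv => by
            rw [LinearMap.mem_ker] at hv ⊢
            rw [Module.End.mul_apply, hv, map_zero]
        · have h1 : LinearMap.ker (U ^ L) = ⊤ := by
            rw [show L = j + (L - j) by omega, ← Module.End.ker_pow_constant h,
              Module.End.ker_pow_constant h (2 * L - 1 + L), show j + (2 * L - 1 + L) = j + L + (2 * L - 1) by omega,
              pow_add, h0, mul_zero, LinearMap.ker_zero]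
          exact LinearMap.ker_eq_top.1 h1
      have h2 := Submodule.finrank_lt_finrank_of_lt hlt
      have := ih (by omega)
      omega
  have hdim := LinearMap.finrank_range_add_finrank_ker (U ^ L)
  have h4 := hge L (Nat.le_succ L)
  have h5 := hle L
  have e : Module.finrank k V = 2 * L - 1 := by omega
  refine ⟨e, fun h => ?_⟩
  have h6 := hle (2 * L - 2)
  rw [h, LinearMap.ker_zero, finrank_top] at h6
  omega

/-- Conjugation of endomorphisms. -/
noncomputable def adEnd (τ : G →* Module.End k V) : G →* Module.End k (Module.End k V) where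
  toFun g := (LinearMap.mulLeft k (τ g)).comp (LinearMap.mulRight k (τ g⁻¹))
  map_one' := LinearMap.ext fun A => by simp
  map_mul' x y := LinearMap.ext fun A => by
    simp only [LinearMap.comp_apply, LinearMap.mulLeft_apply, LinearMap.mulRight_apply, Module.End.mul_apply,
      mul_inv_rev, map_mul, mul_assoc]

omit [CharP k 2] in
theorem adEnd_apply (g : G) (A : Module.End k V) : adEnd τ g A = τ g * (A * τ g⁻¹) := rfl

/-- A power of an odd prime one below a power of two is the prime. -/
theorem exp_eq_one {q j n : ℕ} (hq : q.Prime) (hq2 : q ≠ 2) (hn : 2 ≤ n) (h : q ^ j = 2 ^ n - 1) : j = 1 := by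
  have hodd : Odd q := hq.odd_of_ne_two hq2
  have h4 : (4 : ℕ) ∣ 2 ^ n := by
    obtain ⟨c, rfl⟩ : ∃ c, n = 2 + c := ⟨n - 2, by omega⟩
    exact ⟨2 ^ c, by rw [pow_add]; norm_num⟩
  have hpos : 1 ≤ 2 ^ n := Nat.one_le_two_pow
  have hsum : q ^ j + 1 = 2 ^ n := by omega
  rcases Nat.even_or_odd j with ⟨c, rfl⟩ | hj
  · exfalso
    obtain ⟨r, hr⟩ : Odd (q ^ c) := hodd.pow
    have : (q ^ c) * (q ^ c) + 1 = 4 * (r * r + r) + 2 := by rw [hr]; ring
    rw [pow_add, this] at hsum
    omega
  have hdvd : q + 1 ∣ 2 ^ n := by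
    rw [← hsum]
    simpa using hj.nat_add_dvd_pow_add_pow q 1
  obtain ⟨s, hs, hqs⟩ := (Nat.dvd_prime_pow Nat.prime_two).1 hdvd
  obtain ⟨r, hr⟩ := hodd
  have hmod : ∀ c : ℕ, ∃ t, q ^ (2 * c + 1) = q + 2 ^ (s + 1) * t := by
    intro c
    induction c with
    | zero => exact ⟨0, by simp⟩
    | succ c ih =>
      obtain ⟨t, ht⟩ := ih
      have e : q * q = 1 + 2 ^ (s + 1) * r := by
        rw [pow_succ, ← hqs, hr]
        ring
      refine ⟨t * (q * q) + r * q, ?_⟩
      rw [show 2 * (c + 1) + 1 = (2 * c + 1) + 2 by ring, pow_add, ht, pow_two, e]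
      ring
  obtain ⟨c, rfl⟩ := hj
  obtain ⟨t, ht⟩ := hmod c
  have hsn : s = n := by
    by_contra hne
    have hlt : s + 1 ≤ n := by omega
    obtain ⟨d, hd⟩ : 2 ^ (s + 1) ∣ 2 ^ n := pow_dvd_pow 2 hlt
    have h1 : 2 ^ s * (1 + 2 * t) = 2 ^ s * (2 * d) := by
      have : 2 ^ s + 2 ^ (s + 1) * t = 2 ^ (s + 1) * d := by rw [← hd, ← hsum, ht, ← hqs]; ring
      rw [pow_succ] at this
      linarith
    have h2 := Nat.eq_of_mul_eq_mul_left (Nat.two_pow_pos s) h1
    omega
  subst hsn
  have : q ^ (2 * c + 1) = q ^ 1 := by rw [pow_one]; omega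
  exact Nat.pow_right_injective hq.two_le this

end Cfsg.Agent.TwoExp
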