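import Cfsg.Agent.TwoExp.Atom
import Mathlib.GroupTheory.Transfer
import Mathlib.GroupTheory.Nilpotent

/-!
The two applications of the atoms: abelian normalised subgroups, and upper central series of
normalised subgroups generated by involutions.
-/

set_option autoImplicit false

namespace Cfsg.Agent.TwoExp

open Subgroup
open scoped commutatorElement
open Cfsg.Agent.TwoLength Cfsg.Agent.HallHigman

universe u v w

section series

variable {G : Type u} [Group G]

/-- The upper central series of a subgroup, inside the group. -/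
def Zs (M : Subgroup G) (n : ℕ) : Subgroup G := (Subgroup.upperCentralSeries M n).map M.subtype

theorem Zs_le (M : Subgroup G) (n : ℕ) : Zs M n ≤ M := map_subtype_le _

theorem Zs_zero (M : Subgroup G) : Zs M 0 = ⊥ := by
  rw [Zs, Subgroup.upperCentralSeries_zero, Subgroup.map_bot]

theorem mem_Zs_succ {M : Subgroup G} {n : ℕ} {x : G} :
    x ∈ Zs M (n + 1) ↔ x ∈ M ∧ ∀ y ∈ M, ⁅x, y⁆ ∈ Zs M n := by
  constructor
  · rintro ⟨⟨x, hxM⟩, hx, rfl⟩
    exact ⟨hxM, fun y hy => ⟨_, Subgroup.mem_upperCentralSeries_succ_iff.1 hx ⟨y, hy⟩, rfl⟩⟩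
  · rintro ⟨hxM, hx⟩
    refine ⟨⟨x, hxM⟩, Subgroup.mem_upperCentralSeries_succ_iff.2 fun y => ?_, rfl⟩
    obtain ⟨z, hz, e⟩ := hx y y.2
    rwa [show ⁅(⟨x, hxM⟩ : M), y⁆ = z from Subtype.ext e.symm]

theorem Zs_conj {M : Subgroup G} {g : G} (hg : g ∈ normalizer (M : Set G)) :
    ∀ {n : ℕ} {x : G}, x ∈ Zs M n → g * x * g⁻¹ ∈ Zs M n := by
  intro n
  induction n with
  | zero =>
    intro x hx
    rw [Zs_zero, mem_bot] at hx ⊢
    rw [hx, mul_one, mul_inv_cancel]
  | succ n ih =>
    intro x hx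
    obtain ⟨hxM, hx⟩ := mem_Zs_succ.1 hx
    refine mem_Zs_succ.2 ⟨(mem_normalizer_iff.1 hg x).1 hxM, fun y hy => ?_⟩
    have h := ih (hx _ ((mem_normalizer_iff''.1 hg y).1 hy))
    rwa [show g * ⁅x, g⁻¹ * y * g⁆ * g⁻¹ = ⁅g * x * g⁻¹, y⁆ by
      rw [commutatorElement_def, commutatorElement_def]; group] at h

theorem Zs_mono (M : Subgroup G) {m n : ℕ} (h : m ≤ n) : Zs M m ≤ Zs M n :=
  map_mono (Subgroup.upperCentralSeries_mono M h)

theorem normalizer_le_Zs (M : Subgroup G) (n : ℕ) : normalizer (M : Set G) ≤ normalizer (Zs M n : Set G) :=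
  fun g hg => mem_normalizer_iff.2 fun x => ⟨fun hx => Zs_conj hg hx, fun hx => by
    have h := Zs_conj (inv_mem hg) hx
    rwa [show g⁻¹ * (g * x * g⁻¹) * g⁻¹⁻¹ = x by group] at h⟩

/-- Squares drop one step when the subgroup is generated by involutions. -/
theorem Zs_sq {M : Subgroup G} {s : Set G} (hs : M = closure s) (hs2 : ∀ t ∈ s, t * t = 1) {n : ℕ} {x : G}
    (hx : x ∈ Zs M (n + 2)) : x * x ∈ Zs M (n + 1) := by
  obtain ⟨hxM, hx'⟩ := mem_Zs_succ.1 hx
  refine mem_Zs_succ.2 ⟨mul_mem hxM hxM, ?_⟩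
  set P := Subgroup.upperCentralSeries M n with hP
  set π := QuotientGroup.mk' P with hπ
  have hone : ∀ z : M, π z = 1 → (z : G) ∈ Zs M n := fun z hz => ⟨z, (QuotientGroup.eq_one_iff z).1 hz, rfl⟩
  have hcent : ∀ y z : M, Commute (π ⁅(⟨x, hxM⟩ : M), y⁆) (π z) := fun y z => by
    refine commutatorElement_eq_one_iff_commute.1 ?_
    rw [← map_commutatorElement]
    refine (QuotientGroup.eq_one_iff _).2 ?_
    obtain ⟨w, hw, e⟩ := hx' y y.2
    rw [show ⁅(⟨x, hxM⟩ : M), y⁆ = w from Subtype.ext e.symm]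
    exact Subgroup.mem_upperCentralSeries_succ_iff.1 hw z
  intro y hy
  refine hone ⁅(⟨x, hxM⟩ : M) * ⟨x, hxM⟩, ⟨y, hy⟩⁆ ?_
  rw [map_commutatorElement, map_mul, commutatorElement_eq_one_iff_commute]
  have key : ∀ (z : G), z ∈ closure s → ∀ hz : z ∈ M,
      Commute (π ⟨x, hxM⟩ * π ⟨x, hxM⟩) (π ⟨z, hz⟩) := by
    intro z hz
    induction hz using closure_induction with
    | mem t ht =>
      intro htM
      set X := π ⟨x, hxM⟩ with hX
      set t' := π ⟨t, htM⟩ with ht'
      set c := ⁅X, t'⁆ with hc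
      have ht2 : t' * t' = 1 := by
        rw [ht', ← map_mul, show (⟨t, htM⟩ : M) * ⟨t, htM⟩ = 1 from Subtype.ext (hs2 t ht), map_one]
      have hcc : ∀ z : M, Commute c (π z) := fun z => by
        rw [hc, hX, ht', ← map_commutatorElement]; exact hcent _ z
      have e1 : X * t' * X⁻¹ = c * t' := by rw [hc, commutatorElement_def, inv_mul_cancel_right]
      have hc2 : c * c = 1 := by
        have e2 : (c * t') * (c * t') = 1 := by
          rw [← e1, show X * t' * X⁻¹ * (X * t' * X⁻¹) = X * (t' * t') * X⁻¹ by group, ht2, mul_one,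
            mul_inv_cancel]
        have e3 : c * t' = t' * c := (hcc ⟨t, htM⟩).eq
        calc c * c = c * (c * (t' * t')) := by rw [ht2, mul_one]
          _ = c * (t' * c) * t' := by rw [← e3]; simp only [mul_assoc]
          _ = c * t' * (c * t') := by simp only [mul_assoc]
          _ = 1 := e2
      refine mul_inv_eq_iff_eq_mul.1 ?_
      calc X * X * t' * (X * X)⁻¹ = X * (X * t' * X⁻¹) * X⁻¹ := by group
        _ = X * c * t' * X⁻¹ := by rw [e1, mul_assoc X c t']
        _ = c * (X * t' * X⁻¹) := by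
          rw [show X * c = c * X from (hcc ⟨x, hxM⟩).eq.symm]; group
        _ = t' := by rw [e1, ← mul_assoc, hc2, one_mul]
    | one =>
      intro _
      rw [show (⟨1, _⟩ : M) = 1 from rfl, map_one]
      exact Commute.one_right _
    | mul a b ha hb iha ihb =>
      intro hab
      have haM : a ∈ M := hs ▸ ha
      have hbM : b ∈ M := hs ▸ hb
      rw [show (⟨a * b, hab⟩ : M) = ⟨a, haM⟩ * ⟨b, hbM⟩ from rfl, map_mul]
      exact (iha haM).mul_right (ihb hbM)
    | inv a ha iha =>
      intro hai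
      have haM : a ∈ M := hs ▸ ha
      rw [show (⟨a⁻¹, hai⟩ : M) = ⟨a, haM⟩⁻¹ from rfl, map_inv]
      exact (iha haM).inv_right
  exact key y (hs ▸ hy) hy

/-- Products `(v h)ⁿ h⁻ⁿ` stay in normalised subgroups. -/
theorem nu_mem {N : Subgroup G} {v h : G} (hv : v ∈ N) (hh : h ∈ normalizer (N : Set G)) :
    ∀ n : ℕ, (v * h) ^ n * (h ^ n)⁻¹ ∈ N
  | 0 => by simp
  | n + 1 => by
    rw [pow_succ' (v * h), pow_succ' h n, show v * h * (v * h) ^ n * (h * h ^ n)⁻¹ =
      v * (h * ((v * h) ^ n * (h ^ n)⁻¹) * h⁻¹) by group]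
    exact mul_mem hv ((mem_normalizer_iff.1 hh _).1 (nu_mem hv hh n))

end series

variable {k : Type w} [Field k] [CharP k 2] {V : Type v} [AddCommGroup V] [Module k V] [IsAlgClosed k]
  [FiniteDimensional k V] [Nontrivial V] {G : Type u} [Group G] [Finite G]
  {τ : G →* Module.End k V} {q : ℕ} [hq : Fact q.Prime] {C T : Subgroup G}

/-- Abelian normalised subgroups. -/
theorem app1 (L : Loc q τ C T) {N : Subgroup G} (hNT : N ≤ T) (hNc : ∀ x ∈ N, ∀ y ∈ N, Commute x y) {i : ℕ}
    {h : G} (hh : h ∈ T) (hhN : h ∈ normalizer (N : Set G))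
    (hnil : ∀ v ∈ N, opN τ (v * h) ^ (2 ^ (i + 1) - 1) = 0) :
    (∀ v ∈ N, (v * h) ^ 2 ^ i = 1 ∨ h ^ 2 ^ i = 1 ∨ (v * h) ^ 2 ^ i = h ^ 2 ^ i) ∧
      ((∀ v ∈ N, v * v = 1) → ∀ v ∈ N, (v * h) ^ 2 ^ i = h ^ 2 ^ i) := by
  have aux : ∀ h : G, h ∈ normalizer (N : Set G) → Exc τ T i h →
      (∀ v ∈ N, opN τ (v * h) ^ (2 ^ (i + 1) - 1) = 0) →
      (∀ v ∈ N, (v * h) ^ 2 ^ i = 1 ∨ (v * h) ^ 2 ^ i = h ^ 2 ^ i) ∧
        ((∀ v ∈ N, v * v = 1) → ∀ v ∈ N, (v * h) ^ 2 ^ i = h ^ 2 ^ i) := by
    intro h hhN X hnil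
    have hi := X.pos L.inj
    obtain ⟨D, E, A⟩ := exists_atom L X
    set b := h ^ 2 ^ i with hb
    have hb2 : b * b = 1 := X.sq L.inj
    have hpow2 : ∀ v : G, v * v = 1 → v ^ 2 ^ i = 1 := fun v hv => by
      rw [show 2 ^ i = 2 * 2 ^ (i - 1) by rw [← pow_succ', Nat.sub_add_cancel hi], pow_mul, pow_two, hv, one_pow]
    let f : G → G := fun v => h * v * h⁻¹ * v
    have hconjN : ∀ (c : G), c ∈ normalizer (N : Set G) → ∀ v ∈ N, v * v = 1 →
        c * v * c⁻¹ ∈ N ∧ c * v * c⁻¹ * (c * v * c⁻¹) = 1 := fun c hc v hv hv2 =>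
      ⟨(mem_normalizer_iff.1 hc v).1 hv, by
        rw [show c * v * c⁻¹ * (c * v * c⁻¹) = c * (v * v) * c⁻¹ by group, hv2, mul_one, mul_inv_cancel]⟩
    have hf : ∀ v ∈ N, v * v = 1 → f v ∈ N ∧ f v * f v = 1 := fun v hv hv2 => by
      obtain ⟨h1, h2⟩ := hconjN h hhN v hv hv2
      refine ⟨mul_mem h1 hv, ?_⟩
      show h * v * h⁻¹ * v * (h * v * h⁻¹ * v) = 1
      rw [mul_assoc (h * v * h⁻¹), ← mul_assoc v, ← (hNc _ h1 v hv).eq, mul_assoc (h * v * h⁻¹) v, hv2, mul_one, h2]
    have hfn : ∀ n, ∀ v ∈ N, v * v = 1 → f^[n] v ∈ N ∧ f^[n] v * f^[n] v = 1 := by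
      intro n
      induction n with
      | zero => intro v hv hv2; exact ⟨hv, hv2⟩
      | succ n ih => intro v hv hv2; rw [Function.iterate_succ_apply]; exact ih _ (hf v hv hv2).1 (hf v hv hv2).2
    have hdouble : ∀ m, ∀ v ∈ N, v * v = 1 → f^[2 ^ m] v = h ^ 2 ^ m * v * (h ^ 2 ^ m)⁻¹ * v := by
      intro m
      induction m with
      | zero => intro v _ _; rw [pow_zero, Function.iterate_one, pow_one]
      | succ m ih =>
        intro v hv hv2
        have e : 2 ^ (m + 1) = 2 ^ m + 2 ^ m := by ring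
        rw [e, Function.iterate_add_apply, ih _ (hfn _ v hv hv2).1 (hfn _ v hv hv2).2, ih v hv hv2, pow_add]
        set c := h ^ 2 ^ m
        obtain ⟨h1, h2⟩ := hconjN c (pow_mem hhN _) v hv hv2
        rw [show c * (c * v * c⁻¹ * v) * c⁻¹ * (c * v * c⁻¹ * v) =
          c * c * v * (c * c)⁻¹ * (c * v * c⁻¹ * (c * v * c⁻¹)) * v by group, h2, mul_one]
    -- involutions
    have hinvol : ∀ v ∈ N, v * v = 1 → v = 1 ∨ v = b := by
      have step : ∀ v ∈ N, v * v = 1 → (f v = 1 ∨ f v = b) → v = 1 ∨ v = b := by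
        intro v hv hv2 hfv
        rcases hfv with hfv | hfv
        · have hvh : Commute v h := by
            have e : h * v * h⁻¹ = v :=
              (eq_inv_of_mul_eq_one_left hfv).trans (inv_eq_of_mul_eq_one_right hv2)
            exact (mul_inv_eq_iff_eq_mul.1 e).symm
          have hvb : Commute v b := hvh.pow_right _
          have he : (v * h) ^ 2 ^ i = b := by rw [hvh.mul_pow, hpow2 v hv2, one_mul]
          have X' : Exc τ T i (v * h) := ⟨mul_mem (hNT hv) X.mem, hnil v hv, by rw [he]; exact X.ne⟩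
          obtain ⟨D', E', A'⟩ := exists_atom L X'
          have hvfix : ∀ u ∈ fix C b, Commute v u := fun u hu => by
            have h1 := (A'.cen u (by rw [he]; exact hu)).mul_left (A.cen u hu).inv_left
            rwa [mul_inv_cancel_right] at h1
          rcases A.invol v (hNT hv) hv2 hvb with h1 | h1
          · exact Or.inl (A.eq_one L X (hNT hv) hvfix h1)
          · refine Or.inr ?_
            have h3 : v * b = 1 := A.eq_one L X (mul_mem (hNT hv) (pow_mem X.mem _))
              (fun u hu => (hvfix u hu).mul_left (mem_fix.1 hu).2.symm) h1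
            exact (eq_inv_of_mul_eq_one_left h3).trans (inv_eq_of_mul_eq_one_right hb2)
        · exfalso
          have hbN : b ∈ N := hfv ▸ (hf v hv hv2).1
          have hvb : Commute v b := hNc v hv b hbN
          have hn := A.cut.nrm X.mem_centralizer
          have hconjD : ∀ y : G, (∀ d ∈ D, Commute y d) → ∀ d ∈ D, Commute (h * y * h⁻¹) d := fun y hy d hd => by
            have h2 := (Commute.conj_iff h).2 (hy (h⁻¹ * d * h) ((mem_normalizer_iff''.1 hn d).1 hd))
            rwa [show h * (h⁻¹ * d * h) * h⁻¹ = d by group] at h2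
          obtain ⟨d, hd, hne⟩ := A.notD
          refine hne ?_
          show Commute b d
          rw [← hfv]
          rcases A.invol v (hNT hv) hv2 hvb with h1 | h1
          · exact (hconjD v h1 d hd).mul_left (h1 d hd)
          · have e : h * v * h⁻¹ * v = h * (v * b) * h⁻¹ * (v * b) := by
              have hhb : h * b * h⁻¹ = b := by rw [((Commute.refl h).pow_right (2 ^ i) : Commute h b).eq, mul_inv_cancel_right]
              rw [show h * (v * b) * h⁻¹ = h * v * h⁻¹ * (h * b * h⁻¹) by group, hhb, mul_assoc (h * v * h⁻¹) b,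
                ← mul_assoc b v, ← hvb.eq, mul_assoc v b, hb2, mul_one]
            show Commute (h * v * h⁻¹ * v) d
            rw [e]
            exact (hconjD _ h1 d hd).mul_left (h1 d hd)
      have hall : ∀ n, ∀ v ∈ N, v * v = 1 → (f^[n] v = 1 ∨ f^[n] v = b) → v = 1 ∨ v = b := by
        intro n
        induction n with
        | zero => intro v _ _ h0; exact h0
        | succ n ih =>
          intro v hv hv2 h0
          rw [Function.iterate_succ_apply] at h0
          exact step v hv hv2 (ih _ (hf v hv hv2).1 (hf v hv hv2).2 h0)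
      intro v hv hv2
      refine hall (2 ^ (i + 1)) v hv hv2 (Or.inl ?_)
      rw [hdouble _ v hv hv2, pow_eq_one_of_nil L.inj X.nil, one_mul, inv_one, mul_one, hv2]
    refine ⟨fun v hv => ?_, fun hel v hv => ?_⟩
    · by_contra hcon
      push Not at hcon
      obtain ⟨hb'1, hb'b⟩ := hcon
      set b' := (v * h) ^ 2 ^ i with hb'
      set z := b' * b⁻¹ with hz
      have hzN : z ∈ N := nu_mem hv hhN _
      have hzb : z * b = b' := inv_mul_cancel_right b' b
      have hb'2 : b' * b' = 1 := by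
        rw [hb', ← pow_add, ← two_mul, ← pow_succ']
        exact pow_eq_one_of_nil L.inj (hnil v hv)
      have hzz : z * z = 1 := by
        by_contra hne
        obtain ⟨r, hr⟩ := L.pT ⟨z, hNT hzN⟩
        obtain ⟨s, -, hs⟩ := (Nat.dvd_prime_pow Nat.prime_two).1
          (orderOf_dvd_of_pow_eq_one (x := z) (n := 2 ^ r) (congrArg Subtype.val hr))
        have hs2 : 2 ≤ s := by
          by_contra hlt
          refine hne ?_
          rw [← pow_two]
          refine orderOf_dvd_iff_pow_eq_one.1 (hs ▸ ?_)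
          interval_cases s <;> norm_num
        set y := z ^ 2 ^ (s - 1) with hy
        have hy2 : y * y = 1 := by
          rw [hy, ← pow_add, ← two_mul, ← pow_succ', Nat.sub_add_cancel (by omega), ← hs, pow_orderOf_eq_one]
        have hy1 : y ≠ 1 := pow_ne_one_of_lt_orderOf (by positivity) (hs ▸ Nat.pow_lt_pow_right one_lt_two (by omega))
        have hyb := (hinvol y (N.pow_mem hzN _) hy2).resolve_left hy1
        have hzcb : Commute z b := hyb ▸ (Commute.refl z).pow_right _
        rw [← hzb, show z * b * (z * b) = z * (b * z) * b by group, ← hzcb.eq,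
          show z * (z * b) * b = z * z * (b * b) by group, hb2, mul_one] at hb'2
        exact hne hb'2
      rcases hinvol z hzN hzz with h1 | h1
      · exact hb'b (by rw [← hzb, h1, one_mul])
      · exact hb'1 (by rw [← hzb, h1, hb2])
    · have hvh : Commute v h := by
        rcases hinvol v hv (hel v hv) with rfl | rfl
        · exact Commute.one_left _
        · exact (Commute.refl h).pow_left _
      rw [hvh.mul_pow, hpow2 v (hel v hv), one_mul]
  by_cases hb : h ^ 2 ^ i = 1
  · refine ⟨fun v _ => Or.inr (Or.inl hb), fun hel v hv => ?_⟩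
    by_contra hne
    rw [hb] at hne
    have X' : Exc τ T i (v * h) := ⟨mul_mem (hNT hv) hh, hnil v hv, hne⟩
    have h1 := (aux (v * h) (mul_mem (le_normalizer hv) hhN) X' fun w hw => by
      rw [← mul_assoc]; exact hnil _ (mul_mem hw hv)).2 hel v⁻¹ (inv_mem hv)
    rw [inv_mul_cancel_left, hb] at h1
    exact hne h1.symm
  · have X : Exc τ T i h := ⟨hh, by simpa using hnil 1 N.one_mem, hb⟩
    obtain ⟨h1, h2⟩ := aux h hhN X hnil
    exact ⟨fun v hv => (h1 v hv).imp id Or.inr, h2⟩

/-- Upper central series of normalised subgroups generated by involutions. -/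
theorem app2 (L : Loc q τ C T) {M Aw : Subgroup G} (hM : M ≤ T) {s : Set G} (hs : M = closure s)
    (hs2 : ∀ t ∈ s, t * t = 1) (hAc : ∀ x ∈ Aw, ∀ y ∈ Aw, Commute x y)
    (hAT : ∀ t ∈ T, ∀ a ∈ Aw, t * a * t⁻¹ ∈ Aw) {i : ℕ} {h : G} (hh : h ∈ T)
    (hhM : h ∈ normalizer (M : Set G)) {n : ℕ} {v : G} (hv : v ∈ Zs M (n + 2))
    (hnil : opN τ h ^ (2 ^ (i + 1) - 1) = 0) (hnil' : opN τ (v * h) ^ (2 ^ (i + 1) - 1) = 0)
    (hbA : h ^ 2 ^ i ∈ Aw) (hb'A : (v * h) ^ 2 ^ i ∈ Aw) :
    (v * h) ^ 2 ^ i * (h ^ 2 ^ i)⁻¹ ∈ Zs M (n + 1) := by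
  classical
  have aux : ∀ h v : G, h ∈ normalizer (M : Set G) → Exc τ T i h → v ∈ Zs M (n + 2) →
      opN τ (v * h) ^ (2 ^ (i + 1) - 1) = 0 → h ^ 2 ^ i ∈ Aw → (v * h) ^ 2 ^ i ∈ Aw →
      (v * h) ^ 2 ^ i * (h ^ 2 ^ i)⁻¹ ∈ Zs M (n + 1) := by
    intro h v hhM X hv hnil' hbA hb'A
    have hi := X.pos L.inj
    obtain ⟨D, E, A⟩ := exists_atom L X
    set b := h ^ 2 ^ i with hb
    obtain ⟨hvM, hv'⟩ := mem_Zs_succ.1 hv
    have hvT : v ∈ T := hM hvM
    have hconjb : ∀ t ∈ T, Commute b ((t * h * t⁻¹) ^ 2 ^ i) := fun t ht => by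
      rw [conj_pow]; exact hAc _ hbA _ (hAT t ht _ hbA)
    rcases Nat.lt_or_ge i 2 with hi2 | hi2
    · obtain rfl : i = 1 := by omega
      by_cases hb1 : (v * h) ^ 2 ^ 1 = 1
      · exfalso
        obtain ⟨A', hA', φ, hφ1, hφh⟩ := A.phi
        let S := T ⊓ centralizer ({b} : Set G)
        let H := S.subgroupOf T
        let ι : H →* S :=
          { toFun := fun x => ⟨((x : T) : G), x.2⟩, map_one' := rfl, map_mul' := fun x y => rfl }
        let φ' := φ.comp ι
        set ψ := MonoidHom.transfer φ' with hψ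
        haveI := Fintype.ofFinite G
        have hsq : ∀ t : T, (t : G) * t = 1 → ψ t = 1 := by
          intro t ht
          rw [hψ, MonoidHom.transfer_eq_prod_quotient_orbitRel_zpowers_quot]
          refine Finset.prod_eq_one fun o _ => hφ1 _ (Or.inl ?_)
          have ht' : t * t = 1 := Subtype.ext ht
          have key : ∀ (g : T) (m : ℕ), (g⁻¹ * t ^ m * g) * (g⁻¹ * t ^ m * g) = 1 := fun g m => by
            rw [show g⁻¹ * t ^ m * g * (g⁻¹ * t ^ m * g) = g⁻¹ * (t * t) ^ m * g by
              rw [(Commute.refl t).mul_pow]; group, ht', one_pow, mul_one, inv_mul_cancel]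
          exact congrArg Subtype.val (key _ _)
        have hψv : ∀ x, x ∈ closure s → ∀ hx : x ∈ T, ψ ⟨x, hx⟩ = 1 := by
          intro x hx
          induction hx using closure_induction with
          | mem t ht => intro htT; exact hsq _ (hs2 t ht)
          | one => intro _; exact map_one ψ
          | mul a c ha hc iha ihc =>
            intro hac
            have haT : a ∈ T := hM (hs ▸ ha)
            have hcT : c ∈ T := hM (hs ▸ hc)
            rw [show (⟨a * c, hac⟩ : T) = ⟨a, haT⟩ * ⟨c, hcT⟩ from rfl, map_mul, iha haT, ihc hcT, one_mul]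
          | inv a ha iha =>
            intro hai
            have haT : a ∈ T := hM (hs ▸ ha)
            rw [show (⟨a⁻¹, hai⟩ : T) = ⟨a, haT⟩⁻¹ from rfl, map_inv, iha haT, inv_one]
        set h₀ : T := ⟨h, X.mem⟩ with hh₀
        have hh₀H : h₀ ∈ H := X.mem_centralizer
        have hne : ψ h₀ ≠ 1 := by
          have hmemH : ∀ x : T, x⁻¹ * h₀ * x ∈ H := by
            intro x
            refine ⟨(x⁻¹ * h₀ * x).2, mem_centralizer_singleton_iff.2 ?_⟩
            show Commute ((x : G)⁻¹ * h * x) b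
            by_cases hxb : ((x : G)⁻¹ * h * x) ^ 2 ^ 1 = b
            · rw [← hxb]; exact (Commute.refl _).pow_right _
            · have X' : Exc τ T 1 ((x : G)⁻¹ * h * x) := by simpa using X.conj (inv_mem x.2)
              obtain ⟨D', E', A''⟩ := exists_atom L X'
              have hc : Commute b (((x : G)⁻¹ * h * x) ^ 2 ^ 1) := by simpa using hconjb _ (inv_mem x.2)
              exact ((orth L X X' A A'' (Ne.symm hxb) hc).1.pow_left (2 ^ 1)).symm
          have hfix : ∀ p : T ⧸ H, h₀ • p = p := by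
            intro p
            obtain ⟨x, rfl⟩ := QuotientGroup.mk_surjective p
            rw [MulAction.Quotient.smul_mk, QuotientGroup.eq, smul_eq_mul,
              show (h₀ * x)⁻¹ * x = (x⁻¹ * h₀ * x)⁻¹ by group]
            exact inv_mem (hmemH x)
          have hterm : ∀ (x : T) (hx : x⁻¹ * h₀ * x ∈ H), x ∉ H → φ' ⟨_, hx⟩ = 1 := by
            intro x hx hxH
            refine hφ1 _ (Or.inr ?_)
            have X' : Exc τ T 1 ((x : G)⁻¹ * h * x) := by simpa using X.conj (inv_mem x.2)
            obtain ⟨D', E', A''⟩ := exists_atom L X'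
            have hc : Commute b (((x : G)⁻¹ * h * x) ^ 2 ^ 1) := by simpa using hconjb _ (inv_mem x.2)
            refine (orth L X X' A A'' (fun e => hxH ?_) hc).2
            refine ⟨x.2, mem_centralizer_singleton_iff.2 ?_⟩
            have e' : b = (x : G)⁻¹ * b * x := by
              conv_lhs => rw [hb, e]
              have e2 : ((x : G)⁻¹ * h * ((x : G)⁻¹)⁻¹) ^ 2 ^ 1 = (x : G)⁻¹ * h ^ 2 ^ 1 * ((x : G)⁻¹)⁻¹ := conj_pow
              rw [inv_inv] at e2
              exact e2
            calc (x : G) * b = (x : G) * ((x : G)⁻¹ * b * x) := by rw [← e']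
              _ = b * x := by group
          rw [hψ, MonoidHom.transfer_eq_prod_quotient_orbitRel_zpowers_quot,
            Finset.prod_eq_single (Quotient.mk'' (((1 : T) : T ⧸ H)))]
          · intro h1
            set o : Quotient (MulAction.orbitRel (zpowers h₀) (T ⧸ H)) := Quotient.mk'' (((1 : T) : T ⧸ H))
            have hxH : o.out.out ∈ H := by
              have h2 : o.out = ((1 : T) : T ⧸ H) := by
                obtain ⟨⟨g, hg⟩, hgo⟩ := Quotient.exact' (Quotient.out_eq' o)
                obtain ⟨z, rfl⟩ := mem_zpowers_iff.1 hg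
                rw [← hgo]
                show h₀ ^ z • ((1 : T) : T ⧸ H) = _
                exact (MulAction.mem_stabilizer_iff (G := T)).1
                  (zpow_mem (show h₀ ∈ MulAction.stabilizer T _ from hfix _) z)
              have h3 := QuotientGroup.out_eq' o.out
              rw [h2, QuotientGroup.eq, mul_one, inv_mem_iff] at h3
              rwa [h2]
            refine hφh (ι ⟨h₀, hh₀H⟩) rfl ?_
            have h4 : ∀ (m : ℕ) (hm : m = 1) (hx : o.out.out⁻¹ * h₀ ^ m * o.out.out ∈ H),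
                φ' ⟨_, hx⟩ = φ' ⟨h₀, hh₀H⟩ := by
              rintro m rfl hx
              rw [show (⟨o.out.out⁻¹ * h₀ ^ 1 * o.out.out, hx⟩ : H) =
                  ⟨o.out.out, hxH⟩⁻¹ * ⟨h₀, hh₀H⟩ * ⟨o.out.out, hxH⟩ from Subtype.ext (by
                    simp only [pow_one, Subgroup.coe_mul, Subgroup.coe_inv]),
                map_mul, map_mul, map_inv, mul_comm _ (φ' ⟨h₀, hh₀H⟩), inv_mul_cancel_right]
            exact (h4 _ (Function.minimalPeriod_eq_one_iff_isFixedPt.2 (hfix _)) _).symm.trans h1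
          · intro o _ ho
            have hxH : o.out.out ∉ H := fun hx => ho (by
              rw [← Quotient.out_eq' o]
              congr 1
              rw [← QuotientGroup.out_eq' o.out, QuotientGroup.eq, mul_one]
              exact inv_mem hx)
            have h4 : ∀ (m : ℕ) (hm : m = 1) (hx : o.out.out⁻¹ * h₀ ^ m * o.out.out ∈ H),
                φ' ⟨_, hx⟩ = 1 := by
              rintro m rfl hx
              have hx' : o.out.out⁻¹ * h₀ * o.out.out ∈ H := by simpa only [pow_one] using hx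
              rw [show (⟨_, hx⟩ : H) = ⟨_, hx'⟩ from Subtype.ext (by simp only [pow_one])]
              exact hterm _ hx' hxH
            exact h4 _ (Function.minimalPeriod_eq_one_iff_isFixedPt.2 (hfix _)) _
          · exact fun h => absurd (Finset.mem_univ _) h
        refine hne ?_
        have h5 := hsq (⟨v, hvT⟩ * h₀) (by
          show v * h * (v * h) = 1
          rw [← pow_two]; simpa using hb1)
        rwa [map_mul, hψv v (hs ▸ hvM) hvT, one_mul] at h5
      · by_cases hbb : (v * h) ^ 2 ^ 1 = b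
        · rw [hbb, mul_inv_cancel]; exact one_mem _
        · have X' : Exc τ T 1 (v * h) := ⟨mul_mem hvT X.mem, hnil', hb1⟩
          obtain ⟨D', E', A''⟩ := exists_atom L X'
          obtain ⟨hc, -⟩ := orth L X X' A A'' (Ne.symm hbb) (hAc _ hbA _ hb'A)
          have hvh : Commute v h := by
            have h1 := hc.symm.mul_left (Commute.refl h).inv_left
            rwa [mul_inv_cancel_right] at h1
          rw [hb, hvh.mul_pow, mul_inv_cancel_right, pow_one, pow_two]
          exact Zs_sq hs hs2 hv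
    · obtain ⟨r, rfl⟩ : ∃ r, i = 2 + r := ⟨i - 2, by omega⟩
      -- triple commutators vanish
      set w := ⁅h, v⁆ with hw
      have htriple : ⁅h, ⁅h, w⁆⁆ = 1 := by
        set x := v * h * v⁻¹ with hx
        have hwx : w = h * x⁻¹ := by rw [hw, hx, commutatorElement_def]; group
        have X' : Exc τ T (2 + r) x := X.conj hvT
        obtain ⟨D', E', A''⟩ := exists_atom L X'
        by_cases hbx : x ^ 2 ^ (2 + r) = b
        · have hwb : Commute w b := by
            rw [hwx]
            refine ((Commute.refl h).pow_right _).mul_left (Commute.inv_left ?_)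
            show Commute x b
            rw [← hbx]
            exact (Commute.refl x).pow_right _
          have hwT : w ∈ T := by rw [hwx]; exact mul_mem X.mem (inv_mem X'.mem)
          have hwfix : ∀ u ∈ fix C b, Commute w u := fun u hu => by
            rw [hwx]
            exact (A.cen u hu).mul_left (A''.cen u (by rw [hbx]; exact hu)).inv_left
          have h2fix : ∀ u ∈ fix C b, Commute ⁅h, w⁆ u := fun u hu => by
            rw [commutatorElement_def]
            exact (((A.cen u hu).mul_left (hwfix u hu)).mul_left (A.cen u hu).inv_left).mul_left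
              (hwfix u hu).inv_left
          refine A.eq_one L X ?_ (fun u hu => ?_) (A.comm2 w hwT hwb)
          · simp only [commutatorElement_def]
            exact mul_mem (mul_mem (mul_mem X.mem (mul_mem (mul_mem (mul_mem X.mem hwT) (inv_mem X.mem))
              (inv_mem hwT))) (inv_mem X.mem)) (inv_mem (mul_mem (mul_mem (mul_mem X.mem hwT) (inv_mem X.mem))
              (inv_mem hwT)))
          · rw [commutatorElement_def]
            exact (((A.cen u hu).mul_left (h2fix u hu)).mul_left (A.cen u hu).inv_left).mul_left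
              (h2fix u hu).inv_left
        · obtain ⟨hc, -⟩ := orth L X X' A A'' (Ne.symm hbx) (hconjb v hvT)
          have hhw : Commute h w := by rw [hwx]; exact (Commute.refl h).mul_right hc.inv_right
          rw [commutatorElement_eq_one_iff_commute.2 hhw, commutatorElement_one_right]
      -- hence the fourth power is short
      set P₀ := Subgroup.upperCentralSeries M (n + 1) with hP₀
      set π := QuotientGroup.mk' P₀ with hπ
      have hmk : ∀ x : G, x ∈ Zs M (n + 2) → ∃ x' : M, (x' : G) = x ∧ (∀ z : M, Commute (π x') (π z)) ∧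
          π x' * π x' = 1 := by
        intro x hx
        obtain ⟨hxM, hx'⟩ := mem_Zs_succ.1 hx
        refine ⟨⟨x, hxM⟩, rfl, fun z => commutatorElement_eq_one_iff_commute.1 ?_, ?_⟩
        · rw [← map_commutatorElement]
          obtain ⟨w', hw', e⟩ := hx' z z.2
          rw [show ⁅(⟨x, hxM⟩ : M), z⁆ = w' from Subtype.ext e.symm]
          exact (QuotientGroup.eq_one_iff _).2 hw'
        · obtain ⟨w', hw', e⟩ := Zs_sq hs hs2 hx
          rw [← map_mul, show (⟨x, hxM⟩ : M) * ⟨x, hxM⟩ = w' from Subtype.ext e.symm]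
          exact (QuotientGroup.eq_one_iff _).2 hw'
      have hc1 := Zs_conj hhM hv
      have hc2 := Zs_conj hhM hc1
      have hc3 := Zs_conj hhM hc2
      obtain ⟨d0, e0, c0, s0⟩ := hmk v hv
      obtain ⟨d1, e1, c1, s1⟩ := hmk _ hc1
      obtain ⟨d2, e2, c2, s2⟩ := hmk _ hc2
      obtain ⟨d3, e3, c3, s3⟩ := hmk _ hc3
      have hprod : (d3 * d2⁻¹) * (d1 * d2⁻¹) * (d1 * d0⁻¹ * (d1 * d2⁻¹)) = 1 := by
        refine Subtype.ext ?_
        simp only [Subgroup.coe_mul, Subgroup.coe_inv, OneMemClass.coe_one, e0, e1, e2, e3]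
        rw [← htriple, hw, commutatorElement_def, commutatorElement_def, commutatorElement_def]
        group
      have hP4 : d0 * d1 * d2 * d3 ∈ P₀ := by
        refine (QuotientGroup.eq_one_iff _).1 ?_
        have h0 := congrArg π hprod
        have i0 : (π d0)⁻¹ = π d0 := inv_eq_of_mul_eq_one_right s0
        have i1 : (π d1)⁻¹ = π d1 := inv_eq_of_mul_eq_one_right s1
        have i2 : (π d2)⁻¹ = π d2 := inv_eq_of_mul_eq_one_right s2
        simp only [map_mul, map_inv, map_one, i0, i2] at h0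
        show π (d0 * d1 * d2 * d3) = 1
        simp only [map_mul]
        -- everything involved is central of exponent two
        set a := π d0
        set b₁ := π d1
        set c := π d2
        set d := π d3
        have k10 : Commute b₁ a := c1 d0
        have k12 : Commute b₁ c := c1 d2
        have k31 : Commute d (a * b₁ * c) := (((c3 d0).mul_right (c3 d1)).mul_right (c3 d2))
        calc a * b₁ * c * d = d * (a * b₁ * c) := k31.eq.symm
          _ = d * (c * (b₁ * c)) * (b₁ * a * (b₁ * c)) := by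
            have h5 : c * (b₁ * c) = b₁ := by rw [k12.eq, ← mul_assoc, s2, one_mul]
            have h6 : b₁ * a * (b₁ * c) = a * c := by
              rw [k10.eq, mul_assoc, ← mul_assoc b₁, s1, one_mul]
            rw [h5, h6]
            rw [mul_assoc d b₁, ← mul_assoc b₁ a, k10.eq]
          _ = 1 := by rw [← h0]; group
      have hP4' : v * (h * v * h⁻¹) * (h * (h * v * h⁻¹) * h⁻¹) *
          (h * (h * (h * v * h⁻¹) * h⁻¹) * h⁻¹) ∈ Zs M (n + 1) := by
        refine ⟨_, hP4, ?_⟩
        simp only [map_mul, Subgroup.coe_subtype, e0, e1, e2, e3]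
      set P4 := v * (h * v * h⁻¹) * (h * (h * v * h⁻¹) * h⁻¹) * (h * (h * (h * v * h⁻¹) * h⁻¹) * h⁻¹)
      have h4 : (v * h) ^ 4 = P4 * h ^ 4 := by simp only [P4, pow_succ, pow_zero, one_mul]; group
      have h5 := nu_mem hP4' (normalizer_le_Zs M (n + 1) (pow_mem hhM 4)) (2 ^ r)
      rw [← h4, ← pow_mul, ← pow_mul, show 4 * 2 ^ r = 2 ^ (2 + r) by ring] at h5
      exact h5
  by_cases hb : h ^ 2 ^ i = 1
  · by_cases hb' : (v * h) ^ 2 ^ i = 1
    · rw [hb, hb', inv_one, mul_one]; exact one_mem _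
    · have h1 := aux (v * h) v⁻¹ (mul_mem (le_normalizer (Zs_le M _ hv)) hhM)
        ⟨mul_mem (hM (Zs_le M _ hv)) hh, hnil', hb'⟩ (inv_mem hv) (by rwa [inv_mul_cancel_left]) hb'A
        (by rwa [inv_mul_cancel_left])
      rw [inv_mul_cancel_left] at h1
      simpa using inv_mem h1
  · exact aux h v hhM ⟨hh, hnil, hb⟩ hv hnil' hbA hb'A

end Cfsg.Agent.TwoExp
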