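import Cfsg.Agent.TwoLength.Main
import Cfsg.Agent.TwoExp.Local

/-!
Invariant `q`-subgroups of class two detect the Sylow 2-subgroup, and give local views of it in which
high 2-powers fix every class of constituents.
-/

set_option autoImplicit false

namespace Cfsg.Agent.TwoExp

open Subgroup
open scoped commutatorElement Pointwise
open Cfsg.Agent.TwoLength Cfsg.Agent.HallHigman

universe u v w

variable {k : Type w} [Field k] [CharP k 2] [IsAlgClosed k] {V : Type v} [AddCommGroup V] [Module k V]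
  [FiniteDimensional k V] {X : Type u} [Group X] [Finite X] {σ : X →* Module.End k V}

/-- Highest relevant powers. -/
def apow (P : Subgroup X) (e : ℕ) : Subgroup X := closure {x | ∃ g ∈ P, x = g ^ 2 ^ (e - 1)}

omit [Finite X] in
theorem apow_le (P : Subgroup X) (e : ℕ) : apow P e ≤ P := (closure_le P).2 (by
  rintro _ ⟨g, hg, rfl⟩
  exact pow_mem hg _)

omit [Finite X] in
theorem mem_apow {P : Subgroup X} {e : ℕ} {g : X} (hg : g ∈ P) : g ^ 2 ^ (e - 1) ∈ apow P e :=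
  subset_closure ⟨g, hg, rfl⟩

/-- The invariant `q`-subgroups of use. -/
structure Member (P R₀ C : Subgroup X) (q : ℕ) : Prop where
  q2 : q ≠ 2
  qC : IsPGroup q C
  cls : ∀ u ∈ C, ∀ v ∈ C, ∀ x ∈ C, Commute ⁅u, v⁆ x
  nrm : P ≤ normalizer (C : Set X)
  moving : ∀ y ∈ normalizer (R₀ : Set X), ∃ y₃ ∈ normalizer (C : Set X), ∀ r ∈ R₀, y * r * y⁻¹ = y₃ * r * y₃⁻¹

/-- A view: the operators fixing a class of constituents, on an invariant copy. -/
structure View (P R₀ : Subgroup X) (e q : ℕ) (S : Subgroup X) {Z : Type u} [Group Z] [Finite Z]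
    {U : Submodule k V} [Nontrivial U] (π : S →* Z) (τ : Z →* Module.End k U) (C T : Subgroup Z) : Prop where
  loc : Loc q τ C T
  le : S ≤ P
  range : π.range = T
  step : ∀ g ∈ P, ∀ j, g ^ 2 ^ j ∈ S → (∀ l < j, g ^ 2 ^ l ∉ S) →
    j < e ∧ ∀ hg : g ^ 2 ^ j ∈ S, opN τ (π ⟨_, hg⟩) ^ (2 ^ (e - j) - 1) = 0
  apow_le : apow P e ≤ S
  cover : ∀ y ∈ normalizer (R₀ : Set X), ∀ r ∈ R₀, r ∈ apow P e → y * r * y⁻¹ ∈ S

theorem sum_range_mul {M : Type*} [AddCommMonoid M] (f : ℕ → M) (n : ℕ) :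
    ∀ m, ∑ l ∈ Finset.range (m * n), f l = ∑ r ∈ Finset.range n, ∑ a ∈ Finset.range m, f (a * n + r)
  | 0 => by simp
  | m + 1 => by
    rw [show (m + 1) * n = m * n + n by ring, Finset.sum_range_add, sum_range_mul f n m, ← Finset.sum_add_distrib]
    simp only [Finset.sum_range_succ]

/-- The orbit of a class under an element with short differences. -/
theorem orbit_nil (hinj : Function.Injective σ) {P C : Subgroup X} (hP : IsPGroup 2 P)
    (hPC : P ≤ normalizer (C : Set X)) {E₀ : Submodule k V} (hE₀ : IsSimpleSub (σ.comp C.subtype) E₀)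
    {S : Subgroup X} (hS : ∀ y, y ∈ S ↔ y ∈ P ∧ Isom (σ.comp C.subtype) E₀ (E₀.map (σ y)))
    (hstab : S ≤ mapStab σ E₀) {g : X} (hg : g ∈ P) {e : ℕ} (hKP : opN σ g ^ (2 ^ e - 1) = 0) {j : ℕ}
    (hj : g ^ 2 ^ j ∈ S) (hmin : ∀ l < j, g ^ 2 ^ l ∉ S) :
    j < e ∧ ∀ v ∈ E₀, (opN σ (g ^ 2 ^ j) ^ (2 ^ (e - j) - 1)) v = 0 := by
  classical
  have hje : j ≤ e := by
    by_contra h
    exact hmin e (by omega) (by rw [pow_eq_one_of_nil hinj hKP]; exact S.one_mem)
  -- the translates are pairwise different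
  let f : ℕ → Submodule k V := fun r => E₀.map (σ (g ^ r))
  have hf : ∀ r, IsSimpleSub (σ.comp C.subtype) (f r) := fun r => simple_map_of_mem σ (hPC (pow_mem hg r)) hE₀
  have hdist : ∀ r s, r < s → s < 2 ^ j → ¬ Isom (σ.comp C.subtype) (f r) (f s) := by
    intro r s hrs hs hiso
    obtain ⟨d, rfl⟩ : ∃ d, s = r + d := ⟨s - r, by omega⟩
    have h1 := isom_map_of_mem σ (hPC (inv_mem (pow_mem hg r))) hiso
    rw [show f r = E₀.map (σ (g ^ r)) from rfl, show f (r + d) = E₀.map (σ (g ^ (r + d))) from rfl,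
      ← map_map_mul, ← map_map_mul, inv_mul_cancel, map_map_one, pow_add, inv_mul_cancel_left] at h1
    have hd : g ^ d ∈ S := (hS _).2 ⟨pow_mem hg d, h1⟩
    obtain ⟨t, c, hc, rfl⟩ := Nat.exists_eq_two_pow_mul_odd (show d ≠ 0 by omega)
    have htj : t < j := by
      by_contra hle
      have := Nat.pow_le_pow_right two_pos (Nat.not_lt.1 hle)
      have := Nat.le_mul_of_pos_right (2 ^ t) hc.pos
      omega
    refine hmin t htj ?_
    obtain ⟨i, hi⟩ := IsPGroup.iff_orderOf.1 hP ⟨g ^ 2 ^ t, pow_mem hg _⟩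
    rw [orderOf_mk] at hi
    obtain ⟨m, hm⟩ := exists_pow_eq_self_of_coprime (x := g ^ 2 ^ t) (n := c)
      (by rw [hi]; exact Nat.Coprime.pow_right i (Nat.coprime_two_right.2 hc))
    rw [← hm]
    refine pow_mem ?_ m
    rw [← pow_mul]
    exact hd
  -- the differences on the first translate
  have hkey : ∀ v ∈ E₀, (opN σ (g ^ 2 ^ j) ^ (2 ^ (e - j) - 1)) v = 0 := by
    intro v hv
    set w := ∑ a ∈ Finset.range (2 ^ (e - j)), σ ((g ^ 2 ^ j) ^ a) v with hw
    have hwE : w ∈ E₀ := E₀.sum_mem fun a _ => mem_of_mapStab (hstab (pow_mem hj a)) hv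
    have hsum : ∑ r ∈ Finset.range (2 ^ j), σ (g ^ r) w = 0 := by
      have h0 := LinearMap.congr_fun hKP v
      rw [opN_pow_pred, LinearMap.sum_apply, LinearMap.zero_apply,
        show 2 ^ e = 2 ^ (e - j) * 2 ^ j by rw [← pow_add, Nat.sub_add_cancel hje], sum_range_mul] at h0
      rw [← h0]
      refine Finset.sum_congr rfl fun r _ => ?_
      rw [hw, map_sum]
      refine Finset.sum_congr rfl fun a _ => ?_
      rw [← Module.End.mul_apply, ← map_mul, ← pow_mul, ← pow_add, Nat.add_comm, Nat.mul_comm]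
    rw [opN_pow_pred, LinearMap.sum_apply, ← hw]
    by_contra hne
    set R := (Finset.range (2 ^ j)).erase 0 with hR
    have h0mem : (0 : ℕ) ∈ Finset.range (2 ^ j) := Finset.mem_range.2 (Nat.two_pow_pos j)
    have hwR : w ∈ R.sup f := by
      rw [← Finset.add_sum_erase _ _ h0mem, pow_zero, map_one, Module.End.one_apply, add_eq_zero_iff_eq_neg] at hsum
      rw [hsum]
      refine (R.sup f).neg_mem ((R.sup f).sum_mem fun r hr => ?_)
      exact Finset.le_sup (f := f) hr (Submodule.mem_map_of_mem hwE)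
    have hinv : Inv (σ.comp C.subtype) (R.sup f) := fun c x hx => by
      have hle : R.sup f ≤ (R.sup f).comap ((σ.comp C.subtype) c) := Finset.sup_le fun r hr y hy =>
        Finset.le_sup (f := f) hr ((hf r).2.1 c y hy)
      exact hle hx
    have hEle : E₀ ≤ R.sup f := by
      have h1 := hE₀.2.2 (E₀ ⊓ R.sup f) inf_le_left fun c x hx => ⟨hE₀.2.1 c x hx.1, hinv c x hx.2⟩
      rcases h1 with h1 | h1
      · have h2 : w ∈ E₀ ⊓ R.sup f := ⟨hwE, hwR⟩
        rw [h1, Submodule.mem_bot] at h2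
        exact absurd h2 hne
      · exact h1 ▸ inf_le_right
    obtain ⟨r, hr, hiso⟩ := exists_isom_of_le_iSup f hE₀ R (fun r _ => hf r) hEle
    rw [hR, Finset.mem_erase, Finset.mem_range] at hr
    refine hdist 0 r (Nat.pos_of_ne_zero hr.1) hr.2 ?_
    rwa [show f 0 = E₀ by show E₀.map (σ (g ^ 0)) = E₀; rw [pow_zero, map_map_one]]
  refine ⟨lt_of_le_of_ne hje fun h => ?_, hkey⟩
  obtain ⟨v, hv, hv0⟩ := Submodule.exists_mem_ne_zero_of_ne_bot hE₀.1
  have h1 := hkey v hv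
  rw [h, Nat.sub_self, pow_zero, Nat.sub_self, pow_zero, Module.End.one_apply] at h1
  exact hv0 h1

/-- A class of constituents: an invariant copy and the operators fixing it. -/
theorem exists_class (hinj : Function.Injective σ) {P C : Subgroup X} (hP : IsPGroup 2 P)
    (hPC : P ≤ normalizer (C : Set X)) {e : ℕ} (hKP : ∀ g ∈ P, opN σ g ^ (2 ^ e - 1) = 0) {W : Submodule k V}
    (hW : IsSimpleSub (σ.comp C.subtype) W) :
    ∃ (E₀ : Submodule k V) (S : Subgroup X), Isom (σ.comp C.subtype) W E₀ ∧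
      IsSimpleSub (σ.comp C.subtype) E₀ ∧ (∀ y, y ∈ S ↔ y ∈ P ∧ Isom (σ.comp C.subtype) E₀ (E₀.map (σ y))) ∧
      S ≤ mapStab σ E₀ ∧ apow P e ≤ S := by
  classical
  let S : Subgroup X :=
    { carrier := {y | y ∈ P ∧ Isom (σ.comp C.subtype) W (W.map (σ y))}
      mul_mem' := fun {x y} hx hy => ⟨P.mul_mem hx.1 hy.1, isom_trans_map hPC hx.1 hx.2 hy.2⟩
      one_mem' := ⟨P.one_mem, by rw [map_map_one]; exact Isom.refl W⟩
      inv_mem' := fun {x} hx => ⟨P.inv_mem hx.1, by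
        have h1 := isom_map_of_mem σ (hPC (P.inv_mem hx.1)) hx.2
        rw [← map_map_mul, inv_mul_cancel, map_map_one] at h1
        exact h1.symm (simple_map_of_mem σ (hPC (P.inv_mem hx.1)) hW).2.1⟩ }
  obtain ⟨E₀, hWE, hstab⟩ := exists_invariant_simple hW (Nat.card S) S le_rfl (hP.to_le fun x hx => hx.1)
    (fun x hx => hPC hx.1) fun s hs => hs.2
  have hE₀ := hWE.simple hW
  have hEW := hWE.symm hW.2.1
  have hS : ∀ y, y ∈ S ↔ y ∈ P ∧ Isom (σ.comp C.subtype) E₀ (E₀.map (σ y)) := fun y =>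
    ⟨fun h => ⟨h.1, (hEW.trans h.2).trans (isom_map_of_mem σ (hPC h.1) hWE)⟩,
      fun h => ⟨h.1, (hWE.trans h.2).trans (isom_map_of_mem σ (hPC h.1) hEW)⟩⟩
  refine ⟨E₀, S, hWE, hE₀, hS, hstab, (closure_le S).2 ?_⟩
  rintro _ ⟨g, hg, rfl⟩
  have hex : ∃ j, g ^ 2 ^ j ∈ S := by
    obtain ⟨n, hn⟩ := hP ⟨g, hg⟩
    exact ⟨n, by rw [show g ^ 2 ^ n = 1 from congrArg Subtype.val hn]; exact S.one_mem⟩
  obtain ⟨hlt, -⟩ := orbit_nil hinj hP hPC hE₀ hS hstab hg (hKP g hg) (Nat.find_spec hex)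
    fun l hl => Nat.find_min hex hl
  set j := Nat.find hex with hj
  rw [show e - 1 = j + (e - 1 - j) by omega, pow_add, pow_mul]
  exact pow_mem (Nat.find_spec hex) _

/-- The invariant subgroups, minimal for moving a central involution. -/
theorem exists_member {P R₀ N : Subgroup X} [N.Normal] (hP : IsPGroup 2 P) (hN : (Nat.card N).Coprime 2)
    (hNC : centralizer (N : Set X) ≤ N) (hR : R₀ ≤ P) (hPR : P ≤ normalizer (R₀ : Set X)) {c : X} (hcP : c ∈ P)
    (hc2 : c * c = 1) (hc1 : c ≠ 1) :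
    ∃ (q : ℕ) (_ : Fact q.Prime) (C : Subgroup X), Member P R₀ C q ∧ ∃ u ∈ C, ¬ Commute c u := by
  haveI : Fact (Nat.Prime 2) := ⟨Nat.prime_two⟩
  have hPN : (Nat.card P).Coprime (Nat.card N) := by
    obtain ⟨j, hj⟩ := IsPGroup.iff_card.1 hP
    rw [hj]
    exact Nat.Coprime.pow_left j hN.symm
  have hcN : ¬ N ≤ centralizer ({c} : Set X) := fun hle => hc1 (by
    have h1 : c ∈ N ⊓ P :=
      ⟨hNC (mem_centralizer_iff.2 fun d hd => mem_centralizer_singleton_iff.1 (hle hd)), hcP⟩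
    rwa [inf_eq_bot_of_coprime hPN.symm, mem_bot] at h1)
  obtain ⟨q, hq, Q, hQP, hQc⟩ : ∃ (q : ℕ) (_ : Fact q.Prime) (Q : Sylow q N),
      P ≤ normalizer ((Q : Subgroup N).map N.subtype : Set X) ∧
      ¬ (Q : Subgroup N).map N.subtype ≤ centralizer ({c} : Set X) := by
    by_contra hall
    push Not at hall
    refine hcN (subgroupOf_eq_top.1 (index_eq_one.1 ?_))
    by_contra hne'
    obtain ⟨q, hq, hqd⟩ := Nat.exists_prime_and_dvd hne'
    haveI := Fact.mk hq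
    obtain ⟨Q, hQ⟩ := Coprime.exists_invariant_sylow (A := P) (K := N) le_normalizer_of_normal hPN
      (Or.inl (haveI := hP.isNilpotent; inferInstance)) q
    exact Q.not_dvd_index (hqd.trans (index_dvd_of_le fun w hw =>
      hall q ⟨hq⟩ Q hQ (mem_map_of_mem N.subtype hw)))
  haveI := hq
  set Q' := (Q : Subgroup N).map N.subtype with hQ'
  have hQq : IsPGroup q Q' := Q.2.map _
  have hq2 : q ≠ 2 := by
    rintro rfl
    obtain ⟨j, hj⟩ := IsPGroup.iff_card.1 hQq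
    have h1 : (Nat.card Q').Coprime 2 := hN.coprime_dvd_left (card_dvd_of_le (map_subtype_le _))
    rcases Nat.eq_zero_or_pos j with rfl | hj0
    · exact hQc (by rw [card_eq_one.1 (by rw [hj, pow_zero] : Nat.card Q' = 1)]; exact bot_le)
    · rw [hj] at h1
      exact absurd ((Nat.coprime_pow_left_iff hj0 2 2).1 h1) (by simp)
  set X₃ := normalizer (Q' : Set X) ⊓ normalizer (R₀ : Set X) with hX₃
  have hPX₃ : P ≤ X₃ := le_inf hQP hPR
  -- a minimal invariant subgroup moved by the conjugates of `c`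
  let P' : Subgroup X → Prop := fun C =>
    C ≤ Q' ∧ X₃ ≤ normalizer (C : Set X) ∧ ∃ y ∈ X₃, ∃ u ∈ C, ¬ Commute (y * c * y⁻¹) u
  obtain ⟨C, ⟨⟨hCQ, hXC, y₀, hy₀, u₀, hu₀, hmove⟩, hmin⟩⟩ : ∃ C, Minimal P' C := by
    refine exists_minimal_of_wellFoundedLT P' ⟨Q', le_rfl, inf_le_left, ?_⟩
    obtain ⟨u, hu, hne⟩ := SetLike.not_le_iff_exists.1 hQc
    exact ⟨1, one_mem _, u, hu, fun h => hne (mem_centralizer_singleton_iff.2 (by simpa using h.symm.eq))⟩
  have hCq : IsPGroup q C := hQq.to_le hCQ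
  set D := ⁅C, C⁆ with hD
  have hDC : D ≤ C := commutator_le_of_self C
  have hXD : X₃ ≤ normalizer (D : Set X) := fun y hy => by
    rw [mem_normalizer_iff_map_conj_eq, hD, map_commutator, mem_normalizer_iff_map_conj_eq.1 (hXC hy)]
  have hDlt : D ≠ C := fun h => by
    have hne : C ≠ ⊥ := fun h0 => hmove (by
      rw [h0, mem_bot] at hu₀
      rw [hu₀]; exact Commute.one_right _)
    exact (Coprime.commutator_lt_of_isPGroup hCq hCq le_normalizer hne).ne h
  have hfixD : ∀ y ∈ X₃, ∀ d ∈ D, Commute (y * c * y⁻¹) d := fun y hy d hd => by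
    by_contra hne
    exact hDlt (le_antisymm hDC (hmin ⟨hDC.trans hCQ, hXD, y, hy, d, hd, hne⟩ hDC))
  set C₀ := C ⊓ centralizer (D : Set X) with hC₀
  have hC₀eq : C ≤ C₀ := by
    by_contra hne
    have hXC₀ : X₃ ≤ normalizer (C₀ : Set X) :=
      Coprime.le_normalizer_inf hXC (Coprime.le_normalizer_centralizer hXD)
    have hfix : ∀ y ∈ X₃, ∀ u ∈ C₀, Commute (y * c * y⁻¹) u := fun y hy u hu => by
      by_contra hne'
      exact hne (hmin ⟨inf_le_left.trans hCQ, hXC₀, y, hy, u, hu, hne'⟩ inf_le_left)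
    refine hmove ?_
    set c' := y₀ * c * y₀⁻¹ with hc'
    have hc'X : c' ∈ X₃ := mul_mem (mul_mem hy₀ (hPX₃ hcP)) (inv_mem hy₀)
    have hc'2 : c' * c' = 1 := by
      rw [hc', show y₀ * c * y₀⁻¹ * (y₀ * c * y₀⁻¹) = y₀ * (c * c) * y₀⁻¹ by group, hc2, mul_one, mul_inv_cancel]
    set z := u₀⁻¹ * (c' * u₀ * c'⁻¹) with hz
    have hzC : z ∈ C := C.mul_mem (C.inv_mem hu₀) ((mem_normalizer_iff.1 (hXC hc'X) u₀).1 hu₀)
    have hzD : z ∈ C₀ := ⟨hzC, mem_centralizer_iff.2 fun d hd => by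
      have hu : u₀ * d * u₀⁻¹ ∈ D := (mem_normalizer_iff.1 (le_normalizer_dser 1 C hu₀) d).1 hd
      have e1 : c' * d * c'⁻¹ = d := by rw [(hfixD y₀ hy₀ d hd).eq, mul_inv_cancel_right]
      have e2 : c' * (u₀ * d * u₀⁻¹) * c'⁻¹ = u₀ * d * u₀⁻¹ := by
        rw [(hfixD y₀ hy₀ _ hu).eq, mul_inv_cancel_right]
      have e3 : z * d * z⁻¹ = d := by
        calc z * d * z⁻¹ = u₀⁻¹ * (c' * (u₀ * (c'⁻¹ * d * c') * u₀⁻¹) * c'⁻¹) * u₀ := by rw [hz]; group
          _ = u₀⁻¹ * (c' * (u₀ * d * u₀⁻¹) * c'⁻¹) * u₀ := by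
            rw [show c'⁻¹ * d * c' = d by rw [inv_eq_of_mul_eq_one_right hc'2]; rwa [inv_eq_of_mul_eq_one_right hc'2] at e1]
          _ = d := by rw [e2]; group
      exact (mul_inv_eq_iff_eq_mul.1 e3).symm⟩
    have hcz := hfix y₀ hy₀ z hzD
    have h1 : c' * u₀ * c'⁻¹ = u₀ * z := by rw [hz, mul_inv_cancel_left]
    have h2 : u₀ = u₀ * (z * z) := by
      calc u₀ = (c' * c') * u₀ * (c' * c')⁻¹ := by rw [hc'2]; group
        _ = c' * (c' * u₀ * c'⁻¹) * c'⁻¹ := by group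
        _ = (c' * u₀ * c'⁻¹) * (c' * z * c'⁻¹) := by
          conv_lhs => rw [h1]
          group
        _ = u₀ * (z * z) := by rw [h1, hcz.eq, mul_inv_cancel_right, mul_assoc]
    have hz1 : z = 1 := eq_one_of_sq hq2 hCq hzC (left_eq_mul.1 h2)
    rw [hz1, mul_one] at h1
    exact mul_inv_eq_iff_eq_mul.1 h1
  have hC2 : ∀ u ∈ C, ∀ v ∈ C, ∀ x ∈ C, Commute ⁅u, v⁆ x := fun u hu v hv x hx =>
    mem_centralizer_iff.1 (hC₀eq hx).2 _ (commutator_mem_commutator hu hv)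
  refine ⟨q, hq, C, ⟨hq2, hCq, hC2, hPX₃.trans hXC, fun y hy => ?_⟩,
    y₀⁻¹ * u₀ * y₀, (mem_normalizer_iff''.1 (hXC hy₀) u₀).1 hu₀, fun h => hmove ?_⟩
  swap
  · have := (Commute.conj_iff y₀).2 h
    rwa [show y₀ * (y₀⁻¹ * u₀ * y₀) * y₀⁻¹ = u₀ by group] at this
  -- move to an element normalising `Q'`
  set α := (MulAut.conjNormal y : MulAut N) with hα
  have hR₀N : R₀ ≤ normalizer (((α • Q : Sylow q N) : Subgroup N).map N.subtype : Set X) := by
    intro r hr
    have hr' : y⁻¹ * r * y ∈ normalizer (Q' : Set X) :=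
      hQP (hR ((mem_normalizer_iff''.1 hy r).1 hr))
    rw [show ((α • Q : Sylow q N) : Subgroup N).map N.subtype = MulAut.conj y • Q' from ?_]
    · rw [mem_normalizer_iff_map_conj_eq]
      show MulAut.conj r • (MulAut.conj y • Q') = MulAut.conj y • Q'
      have h' : MulAut.conj (y⁻¹ * r * y) • Q' = Q' := mem_normalizer_iff_map_conj_eq.1 hr'
      conv_rhs => rw [← h', smul_smul, ← map_mul, show y * (y⁻¹ * r * y) = r * y by group, map_mul, ← smul_smul]
    · rw [Sylow.pointwise_smul_def]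
      show ((Q : Subgroup N).map α.toMonoidHom).map N.subtype =
        ((Q : Subgroup N).map N.subtype).map (MulAut.conj y).toMonoidHom
      rw [Subgroup.map_map, Subgroup.map_map]
      rfl
  obtain ⟨n, hnR, hnQ⟩ := Coprime.exists_centralizer_conj_sylow (A := R₀) (K := N) le_normalizer_of_normal
    (hPN.coprime_dvd_left (card_dvd_of_le hR)) (Or.inl (haveI := (hP.to_le hR).isNilpotent; inferInstance))
    Q (α • Q) (hR.trans hQP) hR₀N
  set y₃ := (n : X)⁻¹ * y with hy₃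
  have hnc : ∀ r ∈ R₀, Commute (n : X) r := fun r hr => (mem_centralizer_iff.1 hnR r hr).symm
  have hy₃Q : y₃ ∈ normalizer (Q' : Set X) := by
    have h2 : MulAut.conj (n : X) • Q' = MulAut.conj y • Q' := by
      have h := congrArg (fun Q₁ : Sylow q N => (Q₁ : Subgroup N).map N.subtype) hnQ
      show Q'.map (MulAut.conj (n : X)).toMonoidHom = Q'.map (MulAut.conj y).toMonoidHom
      rw [hQ', Subgroup.map_map, Subgroup.map_map]
      simp only [Sylow.pointwise_smul_def] at h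
      change ((Q : Subgroup N).map (MulAut.conj n).toMonoidHom).map N.subtype =
        ((Q : Subgroup N).map α.toMonoidHom).map N.subtype at h
      rw [Subgroup.map_map, Subgroup.map_map] at h
      exact h
    rw [mem_normalizer_iff_map_conj_eq]
    show MulAut.conj y₃ • Q' = Q'
    rw [hy₃, map_mul, ← smul_smul, ← h2, smul_smul, ← map_mul, inv_mul_cancel, map_one, one_smul]
  have hnN : (n : X) ∈ normalizer (R₀ : Set X) := centralizer_le_normalizer _ hnR
  have hy₃X : y₃ ∈ X₃ := ⟨hy₃Q, (normalizer (R₀ : Set X)).mul_mem ((normalizer (R₀ : Set X)).inv_mem hnN) hy⟩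
  refine ⟨y₃, hXC hy₃X, fun r hr => ?_⟩
  have hzR : y₃ * r * y₃⁻¹ ∈ R₀ := (mem_normalizer_iff.1 hy₃X.2 r).1 hr
  rw [show y * r * y⁻¹ = n * (y₃ * r * y₃⁻¹) * (n : X)⁻¹ by rw [hy₃]; group, (hnc _ hzR).eq, mul_inv_cancel_right]

/-- An element trivial in every view is trivial. -/
theorem faithful (hinj : Function.Injective σ) {P R₀ N : Subgroup X} [N.Normal] (hP : IsPGroup 2 P)
    (hN : (Nat.card N).Coprime 2) (hNC : centralizer (N : Set X) ≤ N) (hR : R₀ ≤ P)
    (hPR : P ≤ normalizer (R₀ : Set X)) {e : ℕ} (hKP : ∀ g ∈ P, opN σ g ^ (2 ^ e - 1) = 0) {x : X} (hx : x ∈ P)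
    (h : ∀ (q : ℕ) (_ : Fact q.Prime) (S : Subgroup X) (Z : Type u) (_ : Group Z) (_ : Finite Z)
      (U : Submodule k V) (_ : Nontrivial U) (π : S →* Z) (τ : Z →* Module.End k U) (C T : Subgroup Z),
      View P R₀ e q S π τ C T → ∃ hx : x ∈ S, π ⟨x, hx⟩ = 1) : x = 1 := by
  classical
  let K : Subgroup X :=
    { carrier := {x | x ∈ P ∧ ∀ (q : ℕ) (_ : Fact q.Prime) (C : Subgroup X), Member P R₀ C q → ∀ u ∈ C, Commute x u}
      mul_mem' := fun {a b} ha hb => ⟨P.mul_mem ha.1 hb.1, fun q hq C hC u hu =>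
        (ha.2 q hq C hC u hu).mul_left (hb.2 q hq C hC u hu)⟩
      one_mem' := ⟨P.one_mem, fun _ _ _ _ u _ => Commute.one_left u⟩
      inv_mem' := fun {a} ha => ⟨P.inv_mem ha.1, fun q hq C hC u hu => (ha.2 q hq C hC u hu).inv_left⟩ }
  have hKP' : P ≤ normalizer (K : Set X) := fun t ht => by
    refine mem_normalizer_iff_map_conj_eq.2 (Subgroup.eq_of_le_of_card_ge ?_
      (card_map_of_injective (MulAut.conj t).injective).ge)
    rintro _ ⟨a, ha, rfl⟩
    refine ⟨P.mul_mem (P.mul_mem ht ha.1) (P.inv_mem ht), fun q hq C hC u hu => ?_⟩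
    show Commute (t * a * t⁻¹) u
    have h1 := (Commute.conj_iff t).2 (ha.2 q hq C hC _ ((mem_normalizer_iff''.1 (hC.nrm ht) u).1 hu))
    rwa [show t * (t⁻¹ * u * t) * t⁻¹ = u by group] at h1
  have hxK : x ∈ K := by
    refine ⟨hx, fun q hq C hC u hu => ?_⟩
    haveI := Fintype.ofFinite C
    have hu' : ⁅x, u⁆ ∈ C := by
      rw [commutatorElement_def]
      exact C.mul_mem (conj_mem_of_normalizer (hC.nrm hx) hu) (C.inv_mem hu)
    refine commutatorElement_eq_one_iff_commute.1 ?_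
    by_contra hne
    have hb : (σ.comp C.subtype) ⟨_, hu'⟩ ≠ 1 := fun h0 => hne (hinj (h0.trans (map_one σ).symm))
    obtain ⟨W, hW, w, hwW, hw⟩ := exists_simple_nontrivial (card_ne_zero (k := k) hC.q2 hC.qC) hb
    obtain ⟨E₀, S, hWE, hE₀, hS, hstab, hapow⟩ := exists_class hinj hP hC.nrm hKP hW
    have hSP : S ≤ P := fun y hy => ((hS y).1 hy).1
    have hH : ∀ g ∈ C ⊔ S, ∀ v ∈ E₀, σ g v ∈ E₀ := fun g hg v hv => mem_of_mapStab
      ((sup_le (le_mapStab fun g hg v hv => hE₀.2.1 ⟨g, hg⟩ v hv) hstab : C ⊔ S ≤ mapStab σ E₀) hg) hv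
    haveI : Nontrivial E₀ := Submodule.nontrivial_iff_ne_bot.2 hE₀.1
    obtain ⟨Z, _, _, π₀, τ₀, hπ₀, hinj₀, hτ₀⟩ := exists_image (subRep σ (C ⊔ S) E₀ hH)
    set π := π₀.comp (Subgroup.inclusion (le_sup_right : S ≤ C ⊔ S)) with hπ
    set C' := (C.subgroupOf (C ⊔ S)).map π₀ with hC'
    have hirr : Irred (τ₀.comp C'.subtype) := fun U hU => by
      refine irred_subRep hE₀ U fun g v hv => ?_
      have h := hU ⟨π₀ ⟨g, (le_sup_left : C ≤ C ⊔ S) g.2⟩, mem_map_of_mem π₀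
        (show (⟨g, (le_sup_left : C ≤ C ⊔ S) g.2⟩ : ↥(C ⊔ S)) ∈ C.subgroupOf (C ⊔ S) from g.2)⟩ v hv
      rwa [MonoidHom.comp_apply, Subgroup.coe_subtype, hτ₀] at h
    have hview : View P R₀ e q S π τ₀ C' π.range := by
      refine ⟨⟨hC.q2, hinj₀, hirr, (hC.qC.comap_of_injective _ Subtype.val_injective).map π₀, ?_, ?_, ?_⟩,
        hSP, rfl, ?_, hapow, ?_⟩
      · rintro _ ⟨a, ha, rfl⟩ _ ⟨b, hb, rfl⟩
        refine sc_of_commute_all hirr ?_
        rintro _ ⟨z, hz, rfl⟩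
        rw [← map_commutatorElement]
        exact (show Commute ⁅a, b⁆ z from Subtype.ext (hC.cls a ha b hb z hz).eq).map π₀
      · have h1 : IsPGroup 2 ((⊤ : Subgroup S).map π) := ((hP.to_le hSP).to_subgroup ⊤).map π
        rwa [MonoidHom.range_eq_map]
      · rintro _ ⟨t, rfl⟩
        refine mem_normalizer_iff_map_conj_eq.2 (Subgroup.eq_of_le_of_card_ge ?_
          (card_map_of_injective (MulAut.conj (π t)).injective).ge)
        rintro _ ⟨_, ⟨z, hz, rfl⟩, rfl⟩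
        exact ⟨Subgroup.inclusion le_sup_right t * z * (Subgroup.inclusion le_sup_right t)⁻¹,
          conj_mem_of_normalizer (C := C) (hC.nrm (hSP t.2)) hz, by simp [hπ]⟩
      · intro g hg j hj hmin
        obtain ⟨hje, hnil⟩ := orbit_nil hinj hP hC.nrm hE₀ hS hstab hg (hKP g hg) hj hmin
        refine ⟨hje, fun hg' => LinearMap.ext fun v => Subtype.ext ?_⟩
        have hpow : ∀ n (v : E₀), (((opN τ₀ (π ⟨_, hg'⟩)) ^ n) v : V) = (opN σ (g ^ 2 ^ j) ^ n) (v : V) := by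
          intro n
          induction n with
          | zero => intro v; rfl
          | succ n ih =>
            intro v
            rw [pow_succ, Module.End.mul_apply, ih, pow_succ, Module.End.mul_apply]
            congr 1
            rw [opN_apply, opN_apply, Submodule.coe_sub, hπ, MonoidHom.comp_apply, hτ₀]
            rfl
        rw [hpow, hnil v v.2]
        rfl
      · intro y hy r hrR hrA
        obtain ⟨y₃, hy₃, heq⟩ := hC.moving y hy
        have hmemR : y * r * y⁻¹ ∈ R₀ := (mem_normalizer_iff.1 hy r).1 hrR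
        refine (hS _).2 ⟨hR hmemR, ?_⟩
        have hW' : IsSimpleSub (σ.comp C.subtype) (E₀.map (σ y₃⁻¹)) := simple_map_of_mem σ (inv_mem hy₃) hE₀
        obtain ⟨E', S', hWE', -, hS', -, hapow'⟩ := exists_class hinj hP hC.nrm hKP hW'
        have hr' := ((hS' r).1 (hapow' hrA)).2
        have h1 : Isom (σ.comp C.subtype) (E₀.map (σ y₃⁻¹)) ((E₀.map (σ y₃⁻¹)).map (σ r)) :=
          (hWE'.trans hr').trans (isom_map_of_mem σ (hC.nrm (hR hrR)) (hWE'.symm hW'.2.1))
        have h2 := isom_map_of_mem σ hy₃ h1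
        rw [← map_map_mul, ← map_map_mul, ← map_map_mul, mul_inv_cancel, map_map_one, ← heq r hrR] at h2
        exact h2
    obtain ⟨hxS, hx1⟩ := h q hq S Z inferInstance inferInstance E₀ inferInstance π τ₀ C' π.range hview
    obtain ⟨f, hf⟩ := hWE
    refine hw ?_
    have h1 : τ₀ (π₀ ⁅(⟨x, (le_sup_right : S ≤ C ⊔ S) hxS⟩ : ↥(C ⊔ S)), ⟨u, (le_sup_left : C ≤ C ⊔ S) hu⟩⁆) = 1 := by
      rw [map_commutatorElement, show π₀ ⟨x, (le_sup_right : S ≤ C ⊔ S) hxS⟩ = 1 from hx1, commutatorElement_one_left,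
        map_one]
    rw [hτ₀] at h1
    have h2 := congrArg Subtype.val (LinearMap.congr_fun h1 (f ⟨w, hwW⟩))
    have h3 := hf ⟨_, hu'⟩ ⟨w, hwW⟩ ⟨_, hW.2.1 ⟨_, hu'⟩ w hwW⟩ rfl
    have h4 : f ⟨_, hW.2.1 ⟨_, hu'⟩ w hwW⟩ = f ⟨w, hwW⟩ := Subtype.ext (h3.trans h2)
    exact congrArg Subtype.val (f.injective h4)
  by_contra hne
  obtain ⟨c, hcK, hc2, hc1, -⟩ := exists_central_involution (K := K) hP (fun a ha => ha.1) hKP' fun h0 => hne (by
    rwa [h0, mem_bot] at hxK)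
  obtain ⟨q, hq, C, hC, u, hu, hmove⟩ := exists_member hP hN hNC hR hPR hcK.1 hc2 hc1
  exact hmove (hcK.2 q hq C hC u hu)

end Cfsg.Agent.TwoExp
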