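import Cfsg.Agent.TwoLength.Piece
import Cfsg.Agent.TwoExp.Linear

/-!
The inverted part of an irreducible group of class two under an involution, and frames of prime degree.
-/

set_option autoImplicit false

namespace Cfsg.Agent.TwoExp

open Subgroup
open scoped commutatorElement
open Cfsg.Agent.TwoLength Cfsg.Agent.HallHigman

universe u v w

variable {k : Type w} [Field k] [CharP k 2] [IsAlgClosed k] {V : Type v} [AddCommGroup V] [Module k V]
  [FiniteDimensional k V] [Nontrivial V] {G : Type u} [Group G] [Finite G] {τ : G →* Module.End k V}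
  {q : ℕ} [hq : Fact q.Prime] {C T : Subgroup G}

/-- An irreducible `q`-group of class two with a 2-group of operators. -/
structure Loc (q : ℕ) (τ : G →* Module.End k V) (C T : Subgroup G) : Prop where
  q2 : q ≠ 2
  inj : Function.Injective τ
  irr : Irred (τ.comp C.subtype)
  qC : IsPGroup q C
  class2 : ∀ u ∈ C, ∀ v ∈ C, Sc τ ⁅u, v⁆
  pT : IsPGroup 2 T
  nrm : T ≤ normalizer (C : Set G)

/-- The data cut out by an involution. -/
structure Cut (τ : G →* Module.End k V) (C T : Subgroup G) (b : G) (D : Subgroup G) (E : Submodule k V) :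
    Prop where
  mem_iff : ∀ u, u ∈ D ↔ u ∈ C ∧ Sc τ (u * (b * u * b⁻¹))
  commD : ∀ u ∈ fix C b, ∀ d ∈ D, Commute u d
  proj : ∀ u ∈ C, (b * u * b⁻¹)⁻¹ * u ∈ D
  gen : ∀ U : Submodule k V, (∀ e ∈ fix C b, ∀ v ∈ U, τ e v ∈ U) → (∀ d ∈ D, ∀ v ∈ U, τ d v ∈ U) →
    ∀ u ∈ C, ∀ v ∈ U, τ u v ∈ U
  nrm : T ⊓ centralizer ({b} : Set G) ≤ normalizer (D : Set G)
  simple : IsSimpleSub (τ.comp D.subtype) E
  stab : T ⊓ centralizer ({b} : Set G) ≤ mapStab τ E
  moved : ∃ v ∈ E, τ b v ≠ v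
  allIso : ∀ U, IsSimpleSub (τ.comp D.subtype) U → Isom (τ.comp D.subtype) E U

omit [IsAlgClosed k] [FiniteDimensional k V] [Nontrivial V] in
/-- Elements of `C` are generated by fixed and inverted ones. -/
theorem commute_all_of_cut (L : Loc q τ C T) {b : G} (hb : b ∈ T) (hb2 : b * b = 1) {D : Subgroup G}
    {E : Submodule k V} (K : Cut τ C T b D E) {x : G} (h1 : ∀ u ∈ fix C b, Commute x u)
    (h2 : ∀ d ∈ D, Commute x d) : ∀ u ∈ C, Commute x u := by
  intro u hu
  have hbC := L.nrm hb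
  have hu' := conj_mem_of_normalizer hbC hu
  have hp : u * (b * u * b⁻¹) ∈ fix C b := by
    refine mem_fix.2 ⟨C.mul_mem hu hu', (commute_of_sc L.inj L.q2 L.qC hb2 hbC (C.mul_mem hu hu') ?_).symm⟩
    have hcc : b * (b * u * b⁻¹) * b⁻¹ = u := by
      rw [show b * (b * u * b⁻¹) * b⁻¹ = (b * b) * u * (b * b)⁻¹ by group, hb2, one_mul, inv_one, mul_one]
    rw [show b * (u * (b * u * b⁻¹)) * b⁻¹ = b * u * b⁻¹ * (b * (b * u * b⁻¹) * b⁻¹) by group, hcc,
      show (u * (b * u * b⁻¹))⁻¹ * (b * u * b⁻¹ * u) = ⁅(b * u * b⁻¹)⁻¹, u⁻¹⁆ by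
        rw [commutatorElement_def]; group]
    exact L.class2 _ (C.inv_mem hu') _ (C.inv_mem hu)
  obtain ⟨j, hj⟩ := exists_sq_pow L.q2 L.qC hu
  rw [← hj]
  refine Commute.pow_right ?_ j
  rw [show u * u = u * (b * u * b⁻¹) * ((b * u * b⁻¹)⁻¹ * u) by group]
  exact (h1 _ hp).mul_right (h2 _ (K.proj u hu))

theorem exists_cut (L : Loc q τ C T) {b : G} (hbT : b ∈ T) (hb2 : b * b = 1) (hb1 : b ≠ 1) :
    ∃ (D : Subgroup G) (E : Submodule k V), Cut τ C T b D E := by
  have hbC := L.nrm hbT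
  set S := T ⊓ centralizer ({b} : Set G) with hSdef
  have hS : IsPGroup 2 S := L.pT.to_le inf_le_left
  have hSC : S ≤ normalizer (C : Set G) := inf_le_left.trans L.nrm
  have hc : ∀ s ∈ S, Commute s b := fun s hs => mem_centralizer_singleton_iff.1 hs.2
  have hconj : ∀ u ∈ C, b * u * b⁻¹ ∈ C := fun u hu => conj_mem_of_normalizer hbC hu
  have hcl := L.class2
  have hinj := L.inj
  let D : Subgroup G :=
    { carrier := {u | u ∈ C ∧ Sc τ (u * (b * u * b⁻¹))}
      mul_mem' := fun {x y} hx hy => ⟨C.mul_mem hx.1 hy.1, by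
        rw [show x * y * (b * (x * y) * b⁻¹) =
            x * (⁅y, b * x * b⁻¹⁆ * (b * x * b⁻¹)) * (y * (b * y * b⁻¹)) by rw [commutatorElement_def]; group,
          ((hcl y hy.1 _ (hconj x hx.1)).commute hinj (b * x * b⁻¹)).eq, ← mul_assoc x (b * x * b⁻¹)]
        exact (hx.2.mul (hcl y hy.1 _ (hconj x hx.1))).mul hy.2⟩
      one_mem' := ⟨C.one_mem, by
        rw [show (1 : G) * (b * 1 * b⁻¹) = 1 by group]
        exact Sc.one⟩
      inv_mem' := fun {x} hx => ⟨C.inv_mem hx.1, by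
        have h1 : Sc τ (b * x⁻¹ * b⁻¹ * x⁻¹) := by
          rw [show b * x⁻¹ * b⁻¹ * x⁻¹ = (x * (b * x * b⁻¹))⁻¹ by group]
          exact hx.2.inv
        rw [show x⁻¹ * (b * x⁻¹ * b⁻¹) = ⁅x⁻¹, b * x⁻¹ * b⁻¹⁆ * (b * x⁻¹ * b⁻¹ * x⁻¹) by
          rw [commutatorElement_def]; group]
        exact (hcl _ (C.inv_mem hx.1) _ (hconj _ (C.inv_mem hx.1))).mul h1⟩ }
  have hcom : ∀ x ∈ fix C b, ∀ y ∈ D, Commute x y := by
    intro x hx y hy
    obtain ⟨hxC, hxc⟩ := mem_fix.1 hx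
    set z' := y * (b * y * b⁻¹) with hz'
    have hz'c := (hy.2).commute hinj
    have hzC : ⁅x, y⁆ ∈ C := by
      rw [commutatorElement_def]
      exact C.mul_mem (C.mul_mem (C.mul_mem hxC hy.1) (C.inv_mem hxC)) (C.inv_mem hy.1)
    have hzsc := hcl x hxC y hy.1
    have h2 : ⁅x, y⁆ = ⁅x, y⁆⁻¹ := by
      calc ⁅x, y⁆ = b * ⁅x, y⁆ * b⁻¹ := by rw [← (hzsc.commute hinj b).eq, mul_inv_cancel_right]
        _ = ⁅b * x * b⁻¹, b * y * b⁻¹⁆ := by rw [commutatorElement_def, commutatorElement_def]; group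
        _ = ⁅x, y⁻¹ * z'⁆ := by rw [← hxc.eq, mul_inv_cancel_right, hz', inv_mul_cancel_left]
        _ = ⁅x, y⁻¹⁆ := by
          rw [commutatorElement_def, commutatorElement_def, ← mul_assoc, mul_inv_rev,
            show x * y⁻¹ * z' * x⁻¹ * (z'⁻¹ * y⁻¹⁻¹) = x * y⁻¹ * (z' * x⁻¹) * z'⁻¹ * y⁻¹⁻¹ by group,
            (hz'c x⁻¹).eq, show x * y⁻¹ * (x⁻¹ * z') * z'⁻¹ = x * y⁻¹ * x⁻¹ by group]
        _ = y⁻¹ * ⁅x, y⁆⁻¹ * y := by rw [commutatorElement_def, commutatorElement_def]; group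
        _ = ⁅x, y⁆⁻¹ := by rw [← (hzsc.inv.commute hinj y⁻¹).eq, inv_mul_cancel_right]
    exact commutatorElement_eq_one_iff_commute.1 (eq_one_of_sq L.q2 L.qC hzC (mul_eq_one_iff_eq_inv.2 h2))
  have hcc : ∀ x : G, b * (b * x * b⁻¹) * b⁻¹ = x := fun x => by
    rw [show b * (b * x * b⁻¹) * b⁻¹ = (b * b) * x * (b * b)⁻¹ by group, hb2, one_mul, inv_one, mul_one]
  have hproj : ∀ u ∈ C, (b * u * b⁻¹)⁻¹ * u ∈ D := fun u hu => by
    refine ⟨C.mul_mem (C.inv_mem (hconj u hu)) hu, ?_⟩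
    rw [show b * ((b * u * b⁻¹)⁻¹ * u) * b⁻¹ = (b * (b * u * b⁻¹) * b⁻¹)⁻¹ * (b * u * b⁻¹) by
        simp only [mul_assoc, mul_inv_rev, inv_inv, inv_mul_cancel_left], hcc,
      show (b * u * b⁻¹)⁻¹ * u * (u⁻¹ * (b * u * b⁻¹)) = 1 by group]
    exact Sc.one
  have hgen : ∀ U : Submodule k V, (∀ e ∈ fix C b, ∀ v ∈ U, τ e v ∈ U) → (∀ d ∈ D, ∀ v ∈ U, τ d v ∈ U) →
      ∀ u ∈ C, ∀ v ∈ U, τ u v ∈ U := by
    intro U h1 h2 u hu v hv
    have hu' := hconj u hu
    have hp : u * (b * u * b⁻¹) ∈ fix C b := by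
      refine mem_fix.2 ⟨C.mul_mem hu hu', (commute_of_sc hinj L.q2 L.qC hb2 hbC (C.mul_mem hu hu') ?_).symm⟩
      rw [show b * (u * (b * u * b⁻¹)) * b⁻¹ = b * u * b⁻¹ * (b * (b * u * b⁻¹) * b⁻¹) by group, hcc,
        show (u * (b * u * b⁻¹))⁻¹ * (b * u * b⁻¹ * u) = ⁅(b * u * b⁻¹)⁻¹, u⁻¹⁆ by
          rw [commutatorElement_def]; group]
      exact hcl _ (C.inv_mem hu') _ (C.inv_mem hu)
    have hsq : u * u ∈ mapStab τ U := by
      rw [show u * u = u * (b * u * b⁻¹) * ((b * u * b⁻¹)⁻¹ * u) by group]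
      exact mul_mem (le_mapStab h1 hp) (le_mapStab h2 (hproj u hu))
    obtain ⟨j, hj⟩ := exists_sq_pow L.q2 L.qC hu
    exact mem_of_mapStab (hj ▸ pow_mem hsq j) hv
  have hSD : S ≤ normalizer (D : Set G) := by
    intro s hs
    refine mem_normalizer_iff_map_conj_eq.2 (Subgroup.eq_of_le_of_card_ge ?_
      (card_map_of_injective (MulAut.conj s).injective).ge)
    rintro _ ⟨x, hx, rfl⟩
    show s * x * s⁻¹ ∈ D
    refine ⟨conj_mem_of_normalizer (hSC hs) hx.1, ?_⟩
    rw [show s * x * s⁻¹ * (b * (s * x * s⁻¹) * b⁻¹) = s * x * s⁻¹ * ((b * s) * x * (b * s)⁻¹) by group,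
      ← (hc s hs).eq, show s * x * s⁻¹ * (s * b * x * (s * b)⁻¹) = s * (x * (b * x * b⁻¹)) * s⁻¹ by group,
      ← (hx.2.commute hinj s).eq, mul_inv_cancel_right]
    exact hx.2
  obtain ⟨E₀, -, hE₀⟩ := exists_simple_le (τ := τ.comp D.subtype) (U := ⊤) top_ne_bot fun _ _ _ => Submodule.mem_top
  have hiso : ∀ U, IsSimpleSub (τ.comp D.subtype) U → Isom (τ.comp D.subtype) E₀ U := fun U hU =>
    isom_of_cover (E := (fix C b : Set G)) L.irr (fun e he d hd => hcom e he d hd) (fix C b).one_mem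
      (fun U h1 h2 => hgen U h1 h2) (fun e he e' he' => (fix C b).mul_mem he he') hE₀ hU
  obtain ⟨E, hE₀E, hstab⟩ := exists_invariant_simple hE₀ (Nat.card S) S le_rfl hS hSD
    fun s hs => hiso _ (simple_map_of_mem τ (hSD hs) hE₀)
  have hE := hE₀E.simple hE₀
  refine ⟨D, E, fun u => Iff.rfl, hcom, hproj, hgen, hSD, hE, hstab, ?_, fun U hU =>
    (hE₀E.symm hE₀.2.1).trans (hiso U hU)⟩
  by_contra hfix
  push Not at hfix
  -- the translates of `E` by the fixed operators span the space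
  have hfD : fix C b ≤ normalizer (D : Set G) := fun e he => by
    refine mem_normalizer_iff.2 fun x => ⟨fun hx => ?_, fun hx => ?_⟩
    · rwa [(hcom e he x hx).eq, mul_inv_cancel_right]
    · have h := hcom _ ((fix C b).inv_mem he) _ hx
      have h' : x = e⁻¹ * (e * x * e⁻¹) * e := by group
      rw [h', h.eq, inv_mul_cancel_right]
      exact hx
  have htop : Orb τ (fix C b) E = ⊤ := (L.irr _ fun u v hv => hgen _ (fun e he v hv => orb_invariant he hv)
    (fun d hd v hv => orb_invariant' hfD hE ⟨d, hd⟩ hv) u u.2 v hv).resolve_left fun h =>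
      hE.1 (eq_bot_iff.2 (h ▸ le_orb))
  have hle : Orb τ (fix C b) E ≤ LinearMap.ker (opN τ b) := iSup_le fun e => by
    rintro _ ⟨v, hv, rfl⟩
    exact map_ker_opN τ (mem_fix.1 e.2).2 (mem_ker_opN.2 (hfix v hv))
  refine hb1 (hinj (LinearMap.ext fun v => ?_))
  rw [map_one, Module.End.one_apply]
  exact mem_ker_opN.1 (hle (htop.ge Submodule.mem_top))

section frame

variable {a : G}

/-- In prime degree the only involution is the given one. -/
theorem eq_of_sq_of_prime_degree (F : Frame q τ C T a) (hq2 : q ≠ 2) (hdim : Module.finrank k V = q)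
    {t : G} (ht : t ∈ T) (ht2 : t * t = 1) : t = 1 ∨ t = a := by
  classical
  by_contra h
  push Not at h
  have S : Split T a t := ⟨ht, ht2, h.1, h.2⟩
  obtain ⟨u, hu, v, hv, huv⟩ := exists_noncommuting F hq2 S
  set H := fix C (a * t) with hH
  have hHq : IsPGroup q H := F.qC.to_le inf_le_left
  haveI := Fintype.ofFinite H
  have hne : (τ.comp H.subtype) ⁅(⟨u, hu⟩ : H), ⟨v, hv⟩⁆ ≠ 1 := fun h0 =>
    huv (commutatorElement_eq_one_iff_commute.1 (F.inj (h0.trans (map_one τ).symm)))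
  obtain ⟨W, hW, w, hwW, hw⟩ := exists_simple_nontrivial (card_ne_zero (k := k) hq2 hHq) hne
  haveI : Nontrivial W := Submodule.nontrivial_iff_ne_bot.2 hW.1
  set ρ := subRep τ H W fun g hg x hx => hW.2.1 ⟨g, hg⟩ x hx
  obtain ⟨s, hs⟩ := finrank_eq_pow (K := k) (Nat.card H) H hHq le_rfl W ρ (irred_subRep hW)
  have hs1 : Module.finrank k W ≠ 1 := by
    intro h1
    obtain ⟨x₀, -, hx₀⟩ := finrank_eq_one_iff'.1 h1
    have hcomm : ∀ (f g : Module.End k W), Commute f g := fun f g => LinearMap.ext fun x => by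
      obtain ⟨c, rfl⟩ := hx₀ x
      obtain ⟨cf, hcf⟩ := hx₀ (f x₀)
      obtain ⟨cg, hcg⟩ := hx₀ (g x₀)
      simp only [Module.End.mul_apply, map_smul, ← hcf, ← hcg, smul_smul]
      rw [mul_comm cg cf]
    refine hw ?_
    have h2 : ρ ⁅(⟨u, hu⟩ : H), ⟨v, hv⟩⁆ = 1 := by
      rw [commutatorElement_def, map_mul, map_mul, map_mul, (hcomm (ρ (⟨u, hu⟩ : H)) (ρ ⟨v, hv⟩)).eq,
        mul_assoc (ρ _) (ρ (⟨u, hu⟩ : H)), ← map_mul ρ (⟨u, hu⟩ : H), mul_inv_cancel, map_one, mul_one, ← map_mul,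
        mul_inv_cancel, map_one]
    exact congrArg Subtype.val (LinearMap.congr_fun h2 ⟨w, hwW⟩)
  have hWtop : W = ⊤ := by
    refine Submodule.eq_top_of_finrank_eq ?_
    have hle := W.finrank_le
    rw [hdim] at hle ⊢
    rcases Nat.lt_or_ge s 2 with h2 | h2
    · interval_cases s
      · rw [pow_zero] at hs; exact absurd hs hs1
      · rw [hs, pow_one]
    · have := Nat.pow_le_pow_right hq.out.pos h2
      have := hq.out.two_le
      nlinarith
  have hirrH : Irred (τ.comp H.subtype) := fun U hU => by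
    rcases hW.2.2 U (hWtop ▸ le_top) hU with h' | h'
    · exact Or.inl h'
    · exact Or.inr (h'.trans hWtop)
  have hsc : ∀ x ∈ fix C t, Sc τ x := fun x hx => sc_of_commute_all hirrH fun y hy =>
    (commute_factors F hq2 S hy hx).symm
  have hc : ∀ y ∈ C, Commute (a * t) y := commute_of_factors F hq2 S (fun y hy => (mem_fix.1 hy).2.symm)
    fun y hy => ((hsc y hy).commute F.inj (a * t)).symm
  have hc1 := Sc.eq_one F.inj (j := 1) (sc_of_commute_all F.irr hc) (by rw [pow_one, pow_two]; exact S.c2 F)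
  exact S.ba ((eq_inv_of_mul_eq_one_right hc1).trans (inv_eq_of_mul_eq_one_right F.a2))

/-- In prime degree the operators act semiregularly off the scalars. -/
theorem card_dvd_of_prime_degree (F : Frame q τ C T a) (hq2 : q ≠ 2) (hdim : Module.finrank k V = q)
    (huniq : ∀ t ∈ T, t * t = 1 → t = 1 ∨ t = a) : Nat.card T ∣ q ^ 2 - 1 := by
  classical
  haveI := Fintype.ofFinite G
  -- the scalars in `C`
  let Z : Subgroup C :=
    { carrier := {u | Sc τ (u : G)}
      mul_mem' := fun {x y} hx hy => hx.mul hy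
      one_mem' := Sc.one
      inv_mem' := fun {x} hx => hx.inv }
  haveI hZn : Z.Normal := ⟨fun x hx g => by
    show Sc τ ((g : G) * x * (g : G)⁻¹)
    rw [← ((hx : Sc τ (x : G)).commute F.inj g).eq, mul_inv_cancel_right]
    exact hx⟩
  have htrace : ∀ u : C, ¬ Sc τ (u : G) → LinearMap.trace k V (τ u) = 0 := by
    intro u hu
    obtain ⟨x, hx⟩ : ∃ x : C, ¬ Commute (u : G) x := by
      by_contra hall
      push Not at hall
      exact hu (sc_of_commute_all F.irr fun x hx => hall ⟨x, hx⟩)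
    obtain ⟨μ, hμ⟩ := F.class2 x x.2 u u.2
    have hμ1 : μ ≠ 1 := fun h => hx (commutatorElement_eq_one_iff_commute.1 (F.inj (by
      rw [hμ, h, one_smul, map_one]))).symm
    have h1 : LinearMap.trace k V (τ ((x : G) * u * (x : G)⁻¹)) = LinearMap.trace k V (τ u) := by
      rw [map_mul, LinearMap.trace_mul_comm, ← map_mul, ← mul_assoc, inv_mul_cancel, one_mul]
    rw [show (x : G) * u * (x : G)⁻¹ = ⁅(x : G), (u : G)⁆ * u by rw [commutatorElement_def, inv_mul_cancel_right],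
      map_mul, hμ, smul_mul_assoc, one_mul, map_smul, smul_eq_mul] at h1
    have h2 : (μ - 1) * LinearMap.trace k V (τ u) = 0 := by rw [sub_mul, one_mul, h1, sub_self]
    exact (mul_eq_zero.1 h2).resolve_left (sub_ne_zero.2 hμ1)
  have hqk : (Module.finrank k V : k) ≠ 0 := by
    rw [hdim]
    intro h0
    exact hq2 ((Nat.prime_dvd_prime_iff_eq Nat.prime_two hq.out).1 ((CharP.cast_eq_zero_iff k 2 q).1 h0)).symm
  have hli : LinearIndependent k (fun x : C ⧸ Z => τ (x.out : G)) := by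
    rw [Fintype.linearIndependent_iff]
    intro g hg y
    have h := congrArg (fun A => LinearMap.trace k V (A * τ (y.out : G)⁻¹)) hg
    simp only [Finset.sum_mul, zero_mul, map_sum, map_zero, smul_mul_assoc, map_smul, ← map_mul] at h
    rw [Finset.sum_eq_single y (fun x _ hxy => ?_) (fun hy => absurd (Finset.mem_univ y) hy),
      mul_inv_cancel, map_one, LinearMap.trace_one, smul_eq_mul, mul_eq_zero] at h
    · exact h.resolve_right hqk
    · rw [show (x.out : G) * (y.out : G)⁻¹ = ((x.out * y.out⁻¹ : C) : G) from rfl, htrace _ fun hsc => hxy ?_,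
        smul_zero]
      have h1 : (((x.out * y.out⁻¹ : C) : C) : C ⧸ Z) = 1 := (QuotientGroup.eq_one_iff _).2 hsc
      rw [QuotientGroup.mk_mul, QuotientGroup.mk_inv, QuotientGroup.out_eq', QuotientGroup.out_eq',
        mul_inv_eq_one] at h1
      exact h1
  have hcard := hli.fintype_card_le_finrank
  rw [Module.finrank_linearMap, hdim, ← Nat.card_eq_fintype_card, ← Subgroup.index_eq_card] at hcard
  obtain ⟨m, hm⟩ := F.qC.index Z
  have hm2 : m ≤ 2 := by
    by_contra h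
    have h3 := Nat.pow_lt_pow_right hq.out.one_lt (show 2 < m by omega)
    rw [pow_two] at h3
    omega
  -- the operators act semiregularly outside the scalars
  let Ω := {u : G // u ∈ C ∧ ¬ Sc τ u}
  letI : MulAction T Ω :=
    { smul := fun t u => ⟨(t : G) * u.1 * (t : G)⁻¹, conj_mem_of_normalizer (F.nrm t.2) u.2.1, fun h => u.2.2 (by
        have e := (h.commute F.inj (t : G)⁻¹).eq
        rw [show u.1 = (t : G)⁻¹ * ((t : G) * u.1 * (t : G)⁻¹) * t by group, ← e, inv_mul_cancel_right]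
        exact h)⟩
      one_smul := fun u => Subtype.ext (show ((1 : T) : G) * u.1 * ((1 : T) : G)⁻¹ = u.1 by simp)
      mul_smul := fun s t u => Subtype.ext (show ((s * t : T) : G) * u.1 * ((s * t : T) : G)⁻¹ =
        (s : G) * ((t : G) * u.1 * (t : G)⁻¹) * (s : G)⁻¹ by rw [Subgroup.coe_mul]; group) }
  have hstab : ∀ u : Ω, MulAction.stabilizer T u = ⊥ := fun u => by
    rw [eq_bot_iff]
    intro t ht
    rw [Subgroup.mem_bot]
    by_contra hne
    obtain ⟨j, hj⟩ := IsPGroup.iff_orderOf.1 F.pT t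
    have hj0 : j ≠ 0 := fun h0 => hne (orderOf_eq_one_iff.1 (by rw [hj, h0, pow_zero]))
    set s := t ^ 2 ^ (j - 1) with hsdef
    have hs2 : s * s = 1 := by
      rw [hsdef, ← pow_add, ← two_mul, ← pow_succ', Nat.sub_add_cancel (Nat.one_le_iff_ne_zero.2 hj0), ← hj,
        pow_orderOf_eq_one]
    have hs1 : s ≠ 1 := by
      rw [hsdef]
      exact pow_ne_one_of_lt_orderOf (by positivity) (hj ▸ Nat.pow_lt_pow_right one_lt_two (by omega))
    have hsa : (s : G) = a := (huniq s s.2 (by rw [← Subgroup.coe_mul, hs2]; rfl)).resolve_left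
      fun h => hs1 (Subtype.ext h)
    have hts : s ∈ MulAction.stabilizer T u := pow_mem ht _
    have e : a * u.1 * a⁻¹ = u.1 := by
      rw [← hsa]; exact congrArg Subtype.val (MulAction.mem_stabilizer_iff.1 hts)
    exact u.2.2 (F.fpf _ u.2.1 (mul_inv_eq_iff_eq_mul.1 e))
  have hΩ : Nat.card T ∣ Nat.card Ω := by
    rw [Nat.card_congr (MulAction.selfEquivOrbitsQuotientProd hstab), Nat.card_prod]
    exact dvd_mul_left _ _
  have hcount : Nat.card Ω = Nat.card Z * (q ^ m - 1) := by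
    have e1 : Nat.card Ω = Nat.card C - Nat.card Z := by
      have e2 : Nat.card Ω = Nat.card {u : C // ¬ u ∈ Z} := Nat.card_congr
        ((Equiv.subtypeSubtypeEquivSubtypeInter _ (fun u : G => ¬ Sc τ u)).symm)
      rw [e2, Nat.card_eq_fintype_card, Fintype.card_subtype_compl, Nat.card_eq_fintype_card,
        Nat.card_eq_fintype_card]
    rw [e1, Nat.mul_sub, mul_one, ← hm, Subgroup.card_mul_index]
  rw [hcount] at hΩ
  have hcop : (Nat.card T).Coprime (Nat.card Z) := by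
    obtain ⟨i, hi⟩ := IsPGroup.iff_card.1 F.pT
    obtain ⟨j, hj⟩ := IsPGroup.iff_card.1 (F.qC.to_subgroup Z)
    rw [hi, hj]
    exact Nat.coprime_pow_primes i j Nat.prime_two hq.out (Ne.symm hq2)
  have hdvd := hcop.dvd_of_dvd_mul_left hΩ
  interval_cases m
  · -- all of `C` is scalar
    exfalso
    have hall : ∀ x ∈ C, Sc τ x := fun x hx => by
      have htop : Z = ⊤ := Subgroup.index_eq_one.1 (by rw [hm, pow_zero])
      exact (htop.ge (Subgroup.mem_top (⟨x, hx⟩ : C)) :)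
    obtain ⟨x₀, hx₀⟩ := exists_ne (0 : V)
    rcases F.irr (k ∙ x₀) (fun g v hv => by
      obtain ⟨μ, hμ⟩ := hall g g.2
      show τ (g : G) v ∈ _
      rw [hμ, LinearMap.smul_apply, Module.End.one_apply]
      exact Submodule.smul_mem _ μ hv) with h | h
    · exact hx₀ (Submodule.span_singleton_eq_bot.1 h)
    · have h1 := finrank_span_singleton (K := k) hx₀
      rw [h, finrank_top, hdim] at h1
      exact hq.out.one_lt.ne' h1
  · rw [pow_one] at hdvd
    exact hdvd.trans ⟨q + 1, by rw [← one_pow 2, Nat.sq_sub_sq, one_pow, mul_comm]⟩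
  · exact hdvd

end frame

end Cfsg.Agent.TwoExp
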