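import Cfsg.Agent.TwoExp.Members

/-!
The highest powers form an elementary abelian group, and the upper central series of the normal
subgroup they generate in `R₀` carries differences one step shorter.
-/

set_option autoImplicit false

namespace Cfsg.Agent.TwoExp

open Subgroup
open scoped commutatorElement
open Cfsg.Agent.TwoLength Cfsg.Agent.HallHigman

universe u v w

section nu

variable {G : Type u} [Group G]

theorem nu_mul {Y : Subgroup G} (hY : ∀ x ∈ Y, ∀ y ∈ Y, Commute x y) {g : G} (hg : g ∈ normalizer (Y : Set G))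
    {a b : G} (ha : a ∈ Y) (hb : b ∈ Y) :
    ∀ m : ℕ, (a * b * g) ^ m * (g ^ m)⁻¹ = (a * g) ^ m * (g ^ m)⁻¹ * ((b * g) ^ m * (g ^ m)⁻¹)
  | 0 => by simp
  | m + 1 => by
    have e : ∀ y : G, (y * g) ^ (m + 1) * (g ^ (m + 1))⁻¹ = y * (g * ((y * g) ^ m * (g ^ m)⁻¹) * g⁻¹) := fun y => by
      rw [pow_succ', pow_succ']; group
    rw [e, e, e, nu_mul hY hg ha hb m]
    set A := g * ((a * g) ^ m * (g ^ m)⁻¹) * g⁻¹ with hA
    set B := g * ((b * g) ^ m * (g ^ m)⁻¹) * g⁻¹ with hB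
    have hAY : A ∈ Y := (mem_normalizer_iff.1 hg _).1 (nu_mem ha hg m)
    rw [show g * ((a * g) ^ m * (g ^ m)⁻¹ * ((b * g) ^ m * (g ^ m)⁻¹)) * g⁻¹ = A * B by rw [hA, hB]; group,
      mul_assoc, ← mul_assoc b A, ← (hY A hAY b hb).eq, mul_assoc A b, ← mul_assoc]

theorem nu_conj {g c : G} (hc : Commute c g) (y : G) (m : ℕ) :
    c * ((y * g) ^ m * (g ^ m)⁻¹) * c⁻¹ = (c * y * c⁻¹ * g) ^ m * (g ^ m)⁻¹ := by
  have e1 : c * y * c⁻¹ * g = c * (y * g) * c⁻¹ := by
    calc c * y * c⁻¹ * g = c * y * (c⁻¹ * g) := by group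
      _ = c * y * (g * c⁻¹) := by rw [hc.inv_left.eq]
      _ = c * (y * g) * c⁻¹ := by group
  have e2 : c * (g ^ m)⁻¹ * c⁻¹ = (g ^ m)⁻¹ := by rw [(hc.pow_right m).inv_right.eq, mul_inv_cancel_right]
  rw [e1, conj_pow, show c * ((y * g) ^ m * (g ^ m)⁻¹) * c⁻¹ = c * (y * g) ^ m * c⁻¹ * (c * (g ^ m)⁻¹ * c⁻¹) by
    group, e2]

end nu

section img

variable {X : Type u} [Group X] {S : Subgroup X} {Z : Type v} [Group Z] (π : S →* Z)

open Classical in
/-- The image of an element of the domain, extended by one. -/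
noncomputable def img (x : X) : Z := if h : x ∈ S then π ⟨x, h⟩ else 1

theorem img_eq {x : X} (h : x ∈ S) : img π x = π ⟨x, h⟩ := by
  rw [img, dif_pos h]

theorem img_one : img π 1 = 1 := by
  rw [img_eq π S.one_mem]; exact map_one π

theorem img_mul {x y : X} (hx : x ∈ S) (hy : y ∈ S) : img π (x * y) = img π x * img π y := by
  rw [img_eq π hx, img_eq π hy, img_eq π (mul_mem hx hy), ← map_mul]; rfl

theorem img_inv {x : X} (hx : x ∈ S) : img π x⁻¹ = (img π x)⁻¹ := by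
  rw [img_eq π hx, img_eq π (inv_mem hx), ← map_inv]; rfl

theorem img_pow {x : X} (hx : x ∈ S) (n : ℕ) : img π (x ^ n) = img π x ^ n := by
  rw [img_eq π hx, img_eq π (pow_mem hx n), ← map_pow]; rfl

theorem img_range {x : X} (hx : x ∈ S) : img π x ∈ π.range := ⟨⟨x, hx⟩, (img_eq π hx).symm⟩

theorem img_commutator {x y : X} (hx : x ∈ S) (hy : y ∈ S) : img π ⁅x, y⁆ = ⁅img π x, img π y⁆ := by
  rw [commutatorElement_def, commutatorElement_def, img_mul π (mul_mem (mul_mem hx hy) (inv_mem hx)) (inv_mem hy),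
    img_mul π (mul_mem hx hy) (inv_mem hx), img_mul π hx hy, img_inv π hx, img_inv π hy]

/-- The image of a subgroup of the domain. -/
def imgSub (M : Subgroup X) : Subgroup Z := (M.subgroupOf S).map π

theorem mem_imgSub {M : Subgroup X} {x : X} (hx : x ∈ M) (hxS : x ∈ S) : img π x ∈ imgSub π M :=
  ⟨⟨x, hxS⟩, hx, (img_eq π hxS).symm⟩

theorem exists_of_imgSub {M : Subgroup X} {z : Z} (hz : z ∈ imgSub π M) : ∃ x ∈ M, x ∈ S ∧ img π x = z := by
  obtain ⟨⟨x, hxS⟩, hx, rfl⟩ := hz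
  exact ⟨x, hx, hxS, img_eq π hxS⟩

theorem img_normalizer {M : Subgroup X} (hMS : M ≤ S) {g : X} (hgS : g ∈ S) (hg : g ∈ normalizer (M : Set X)) :
    img π g ∈ normalizer (imgSub π M : Set Z) := by
  refine mem_normalizer_iff.2 fun z => ⟨fun hz => ?_, fun hz => ?_⟩
  · obtain ⟨x, hx, hxS, rfl⟩ := exists_of_imgSub π hz
    rw [← img_inv π hgS, ← img_mul π hgS hxS, ← img_mul π (mul_mem hgS hxS) (inv_mem hgS)]
    exact mem_imgSub π ((mem_normalizer_iff.1 hg x).1 hx) (hMS ((mem_normalizer_iff.1 hg x).1 hx))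
  · obtain ⟨x, hx, hxS, e⟩ := exists_of_imgSub π hz
    have h1 : g⁻¹ * x * g ∈ M := (mem_normalizer_iff''.1 hg x).1 hx
    rw [show z = (img π g)⁻¹ * img π x * img π g by rw [e]; group,
      ← img_inv π hgS, ← img_mul π (inv_mem hgS) hxS, ← img_mul π (mul_mem (inv_mem hgS) hxS) hgS]
    exact mem_imgSub π h1 (hMS h1)

theorem img_Zs {M : Subgroup X} (hMS : M ≤ S) :
    ∀ {n : ℕ} {x : X}, x ∈ Zs M n → img π x ∈ Zs (imgSub π M) n := by
  intro n
  induction n with
  | zero =>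
    intro x hx
    rw [Zs_zero, mem_bot] at hx ⊢
    rw [hx, img_one]
  | succ n ih =>
    intro x hx
    obtain ⟨hxM, hx⟩ := mem_Zs_succ.1 hx
    refine mem_Zs_succ.2 ⟨mem_imgSub π hxM (hMS hxM), fun z hz => ?_⟩
    obtain ⟨y, hy, hyS, rfl⟩ := exists_of_imgSub π hz
    rw [← img_commutator π (hMS hxM) hyS]
    exact ih (hx y hy)

theorem imgSub_closure {s : Set X} (hsS : closure s ≤ S) : imgSub π (closure s) = closure (img π '' s) := by
  refine le_antisymm (fun z hz => ?_) ((closure_le _).2 ?_)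
  · obtain ⟨x, hx, -, rfl⟩ := exists_of_imgSub π hz
    induction hx using closure_induction with
    | mem t ht => exact subset_closure ⟨t, ht, rfl⟩
    | one => rw [img_one]; exact one_mem _
    | mul a b ha hb iha ihb =>
      rw [img_mul π (hsS ha) (hsS hb)]
      exact mul_mem (iha (mem_imgSub π ha (hsS ha))) (ihb (mem_imgSub π hb (hsS hb)))
    | inv a ha iha =>
      rw [img_inv π (hsS ha)]
      exact inv_mem (iha (mem_imgSub π ha (hsS ha)))
  · rintro _ ⟨t, ht, rfl⟩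
    exact mem_imgSub π (subset_closure ht) (hsS (subset_closure ht))

end img

variable {k : Type w} [Field k] [CharP k 2] [IsAlgClosed k] {V : Type v} [AddCommGroup V] [Module k V]
  [FiniteDimensional k V] {X : Type u} [Group X] [Finite X] {σ : X →* Module.End k V}

omit [Finite X] in
theorem conj_mem_apow (P : Subgroup X) (e : ℕ) : P ≤ normalizer (apow P e : Set X) := by
  have key : ∀ t ∈ P, ∀ x ∈ apow P e, t * x * t⁻¹ ∈ apow P e := by
    intro t ht x hx
    induction hx using closure_induction with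
    | mem a ha =>
      obtain ⟨g, hg, rfl⟩ := ha
      rw [← conj_pow]
      exact mem_apow (mul_mem (mul_mem ht hg) (inv_mem ht))
    | one => rw [mul_one, mul_inv_cancel]; exact one_mem _
    | mul a b ha hb iha ihb =>
      rw [show t * (a * b) * t⁻¹ = t * a * t⁻¹ * (t * b * t⁻¹) by group]
      exact mul_mem iha ihb
    | inv a ha iha =>
      rw [show t * a⁻¹ * t⁻¹ = (t * a * t⁻¹)⁻¹ by group]
      exact inv_mem iha
  exact fun t ht => mem_normalizer_iff.2 fun x => ⟨key t ht x, fun hx => by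
    have h := key t⁻¹ (inv_mem ht) _ hx
    rwa [show t⁻¹ * (t * x * t⁻¹) * t⁻¹⁻¹ = x by group] at h⟩

section view

variable {P R₀ : Subgroup X} {e q : ℕ} [hq : Fact q.Prime] {S : Subgroup X} {Z : Type u} [Group Z] [Finite Z]
  {U : Submodule k V} [Nontrivial U] {π : S →* Z} {τ : Z →* Module.End k U} {C T : Subgroup Z}

omit hq in
/-- The level at which an element enters a view. -/
theorem exists_level (hv : View P R₀ e q S π τ C T) (hP : IsPGroup 2 P) {g : X} (hg : g ∈ P) :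
    ∃ j, j < e ∧ g ^ 2 ^ j ∈ S ∧ opN τ (img π (g ^ 2 ^ j)) ^ (2 ^ (e - 1 - j + 1) - 1) = 0 ∧
      img π (g ^ 2 ^ (e - 1)) = img π (g ^ 2 ^ j) ^ 2 ^ (e - 1 - j) ∧
      ∀ (Y : Subgroup X), Y ≤ S → Y ≤ P → g ∈ normalizer (Y : Set X) → ∀ y ∈ Y,
        (y * g) ^ 2 ^ j ∈ S ∧ opN τ (img π ((y * g) ^ 2 ^ j)) ^ (2 ^ (e - 1 - j + 1) - 1) = 0 ∧
          img π ((y * g) ^ 2 ^ (e - 1)) = img π ((y * g) ^ 2 ^ j) ^ 2 ^ (e - 1 - j) := by
  classical
  have hex : ∃ j, g ^ 2 ^ j ∈ S := by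
    obtain ⟨n, hn⟩ := hP ⟨g, hg⟩
    exact ⟨n, by rw [show g ^ 2 ^ n = 1 from congrArg Subtype.val hn]; exact S.one_mem⟩
  set j := Nat.find hex with hjdef
  have hj : g ^ 2 ^ j ∈ S := Nat.find_spec hex
  have hmin : ∀ l < j, g ^ 2 ^ l ∉ S := fun l hl => Nat.find_min hex hl
  have main : ∀ g' ∈ P, g' ^ 2 ^ j ∈ S → (∀ l < j, g' ^ 2 ^ l ∉ S) → j < e ∧
      opN τ (img π (g' ^ 2 ^ j)) ^ (2 ^ (e - 1 - j + 1) - 1) = 0 ∧
        img π (g' ^ 2 ^ (e - 1)) = img π (g' ^ 2 ^ j) ^ 2 ^ (e - 1 - j) := by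
    intro g' hg' hj' hmin'
    obtain ⟨hje, hnil⟩ := hv.step g' hg' j hj' hmin'
    refine ⟨hje, ?_, ?_⟩
    · rw [img_eq π hj', show e - 1 - j + 1 = e - j by omega]
      exact hnil hj'
    · rw [← img_pow π hj', ← pow_mul, ← pow_add, show j + (e - 1 - j) = e - 1 by omega]
  obtain ⟨hje, h1, h2⟩ := main g hg hj hmin
  refine ⟨j, hje, hj, h1, h2, fun Y hYS hYP hgY y hy => ?_⟩
  have hiff : ∀ l, (y * g) ^ 2 ^ l ∈ S ↔ g ^ 2 ^ l ∈ S := fun l => by
    have hν := hYS (nu_mem hy hgY (2 ^ l))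
    rw [show (y * g) ^ 2 ^ l = (y * g) ^ 2 ^ l * (g ^ 2 ^ l)⁻¹ * g ^ 2 ^ l by group]
    exact S.mul_mem_cancel_left hν
  have hj' := (hiff j).2 hj
  exact ⟨hj', (main (y * g) (mul_mem (hYP hy) hg) hj' fun l hl h => hmin l hl ((hiff l).1 h)).2⟩

/-- Highest powers along an abelian normalised subgroup, in a view. -/
theorem view_abelian (hv : View P R₀ e q S π τ C T) (hP : IsPGroup 2 P) {g : X} (hg : g ∈ P) {Y : Subgroup X}
    (hYS : Y ≤ S) (hYP : Y ≤ P) (hYc : ∀ x ∈ Y, ∀ y ∈ Y, Commute x y) (hgY : g ∈ normalizer (Y : Set X))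
    {y : X} (hy : y ∈ Y) :
    (img π ((y * g) ^ 2 ^ (e - 1)) = 1 ∨ img π (g ^ 2 ^ (e - 1)) = 1 ∨
        img π ((y * g) ^ 2 ^ (e - 1)) = img π (g ^ 2 ^ (e - 1))) ∧
      ((∀ z ∈ Y, z * z = 1) → img π ((y * g) ^ 2 ^ (e - 1)) = img π (g ^ 2 ^ (e - 1))) := by
  obtain ⟨j, hje, hj, hnil, hpow, hY⟩ := exists_level hv hP hg
  set h := img π (g ^ 2 ^ j) with hh
  let ν : Y →* Z :=
    { toFun := fun z => img π (((z : X) * g) ^ 2 ^ j * (g ^ 2 ^ j)⁻¹)
      map_one' := by rw [OneMemClass.coe_one, one_mul, mul_inv_cancel, img_one]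
      map_mul' := fun a b => by
        rw [Subgroup.coe_mul, nu_mul hYc hgY a.2 b.2,
          img_mul π (hYS (nu_mem a.2 hgY _)) (hYS (nu_mem b.2 hgY _))] }
  have hνh : ∀ z : Y, ν z * h = img π (((z : X) * g) ^ 2 ^ j) := fun z => by
    show img π _ * img π _ = _
    rw [← img_mul π (hYS (nu_mem z.2 hgY _)) hj, inv_mul_cancel_right]
  have hνnorm : h ∈ normalizer (ν.range : Set Z) := by
    have hc : Commute (g ^ 2 ^ j) g := (Commute.refl g).pow_left _
    have hconj : ∀ z : Y, h * ν z * h⁻¹ ∈ ν.range := fun z => by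
      refine ⟨⟨g ^ 2 ^ j * z * (g ^ 2 ^ j)⁻¹, (mem_normalizer_iff.1 (pow_mem hgY _) _).1 z.2⟩, ?_⟩
      show img π _ = img π _ * img π _ * (img π _)⁻¹
      rw [← img_inv π hj, ← img_mul π hj (hYS (nu_mem z.2 hgY _)),
        ← img_mul π (mul_mem hj (hYS (nu_mem z.2 hgY _))) (inv_mem hj), nu_conj hc]
    refine mem_normalizer_iff_map_conj_eq.2 (Subgroup.eq_of_le_of_card_ge ?_
      (card_map_of_injective (MulAut.conj h).injective).ge)
    rintro _ ⟨_, ⟨z, rfl⟩, rfl⟩
    exact hconj z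
  have hνT : ν.range ≤ T := by
    rintro _ ⟨z, rfl⟩
    rw [← hv.range]
    exact img_range π (hYS (nu_mem z.2 hgY _))
  have hνc : ∀ a ∈ ν.range, ∀ b ∈ ν.range, Commute a b := by
    rintro _ ⟨a, rfl⟩ _ ⟨b, rfl⟩
    exact (show Commute a b from Subtype.ext (hYc a a.2 b b.2).eq).map ν
  obtain ⟨h1, h2⟩ := app1 hv.loc hνT hνc (i := e - 1 - j) (hv.range ▸ img_range π hj) hνnorm (by
    rintro _ ⟨z, rfl⟩
    rw [hνh]
    exact (hY Y hYS hYP hgY z z.2).2.1)
  rw [(hY Y hYS hYP hgY y hy).2.2, hpow, ← hνh ⟨y, hy⟩]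
  refine ⟨h1 _ ⟨_, rfl⟩, fun hel => h2 ?_ _ ⟨_, rfl⟩⟩
  rintro _ ⟨z, rfl⟩
  rw [← map_mul, show z * z = 1 from Subtype.ext (hel z z.2), map_one]

/-- Differences along the upper central series, in a view. -/
theorem view_series (hv : View P R₀ e q S π τ C T) (hP : IsPGroup 2 P)
    (hAc : ∀ a ∈ apow P e, ∀ b ∈ apow P e, Commute a b) {g : X} (hg : g ∈ P) {s : Set X}
    (hsS : closure s ≤ S) (hsP : closure s ≤ P) (hs2 : ∀ t ∈ s, t * t = 1)
    (hgM : g ∈ normalizer (closure s : Set X)) {n : ℕ} {r : X} (hr : r ∈ Zs (closure s) (n + 2)) :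
    img π ((r * g) ^ 2 ^ (e - 1) * (g ^ 2 ^ (e - 1))⁻¹) ∈ Zs (imgSub π (closure s)) (n + 1) := by
  obtain ⟨j, hje, hj, hnil, hpow, hY⟩ := exists_level hv hP hg
  have hrM := Zs_le _ _ hr
  obtain ⟨hj', hnil', hpow'⟩ := hY _ hsS hsP hgM r hrM
  set M := closure s with hM
  set h := img π (g ^ 2 ^ j) with hh
  have hν : (r * g) ^ 2 ^ j * (g ^ 2 ^ j)⁻¹ ∈ Zs M (n + 2) := nu_mem hr (normalizer_le_Zs M _ hgM) _
  have hvh : img π ((r * g) ^ 2 ^ j * (g ^ 2 ^ j)⁻¹) * h = img π ((r * g) ^ 2 ^ j) := by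
    rw [hh, ← img_mul π (hsS (Zs_le _ _ hν)) hj, inv_mul_cancel_right]
  have hn1 : g ^ 2 ^ (e - 1) ∈ S := hv.apow_le (mem_apow hg)
  have hn2 : (r * g) ^ 2 ^ (e - 1) ∈ S := hv.apow_le (mem_apow (mul_mem (hsP hrM) hg))
  rw [img_mul π hn2 (inv_mem hn1), img_inv π hn1, hpow, hpow', ← hvh]
  refine app2 hv.loc (Aw := imgSub π (apow P e)) ?_ (imgSub_closure π hsS) ?_ ?_ ?_ (hv.range ▸ img_range π hj)
    (img_normalizer π hsS hj (pow_mem hgM _)) (img_Zs π hsS hν) hnil (by rw [hvh]; exact hnil') ?_ ?_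
  · intro z hz
    obtain ⟨x, -, hxS, rfl⟩ := exists_of_imgSub π hz
    exact hv.range ▸ img_range π hxS
  · rintro _ ⟨t, ht, rfl⟩
    rw [← img_mul π (hsS (subset_closure ht)) (hsS (subset_closure ht)), hs2 t ht, img_one]
  · intro a ha b hb
    obtain ⟨x, hx, hxS, rfl⟩ := exists_of_imgSub π ha
    obtain ⟨y, hy, hyS, rfl⟩ := exists_of_imgSub π hb
    show _ * _ = _ * _
    rw [← img_mul π hxS hyS, ← img_mul π hyS hxS, (hAc x hx y hy).eq]
  · intro t ht a ha
    rw [← hv.range] at ht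
    obtain ⟨⟨u, huS⟩, rfl⟩ := ht
    obtain ⟨x, hx, hxS, rfl⟩ := exists_of_imgSub π ha
    rw [← img_eq π huS, ← img_inv π huS, ← img_mul π huS hxS, ← img_mul π (mul_mem huS hxS) (inv_mem huS)]
    exact mem_imgSub π ((mem_normalizer_iff.1 (conj_mem_apow P e (hv.le huS)) x).1 hx)
      (mul_mem (mul_mem huS hxS) (inv_mem huS))
  · rw [← hpow]
    exact mem_imgSub π (mem_apow hg) hn1
  · rw [hvh, ← hpow']
    exact mem_imgSub π (mem_apow (mul_mem (hsP hrM) hg)) hn2

end view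

/-- The highest powers commute and square to one. -/
theorem apow_elementary (hinj : Function.Injective σ) {P R₀ N : Subgroup X} [N.Normal] (hP : IsPGroup 2 P)
    (hN : (Nat.card N).Coprime 2) (hNC : centralizer (N : Set X) ≤ N) (hR : R₀ ≤ P)
    (hPR : P ≤ normalizer (R₀ : Set X)) {e : ℕ} (he : 1 ≤ e) (hKP : ∀ g ∈ P, opN σ g ^ (2 ^ e - 1) = 0) :
    ∀ a ∈ apow P e, a * a = 1 ∧ ∀ b ∈ apow P e, Commute a b := by
  classical
  set A := apow P e with hA
  have hAP : A ≤ P := apow_le P e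
  -- abelian normalised subgroups are central
  have hclaim : ∀ Y : Subgroup X, Y ≤ A → (∀ x ∈ Y, ∀ y ∈ Y, Commute x y) → P ≤ normalizer (Y : Set X) →
      ∀ y ∈ Y, ∀ a ∈ A, Commute y a := by
    intro Y hYA hYc hPY y hy a ha
    induction ha using closure_induction with
    | one => exact Commute.one_right y
    | mul a b _ _ iha ihb => exact iha.mul_right ihb
    | inv a _ iha => exact iha.inv_right
    | mem a ha =>
      obtain ⟨g, hg, rfl⟩ := ha
      have hyP := hAP (hYA hy)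
      have h1 : y * g ^ 2 ^ (e - 1) * y⁻¹ * (g ^ 2 ^ (e - 1))⁻¹ = 1 := by
        refine faithful hinj hP hN hNC hR hPR hKP (mul_mem (mul_mem (mul_mem hyP (pow_mem hg _)) (inv_mem hyP))
          (inv_mem (pow_mem hg _))) ?_
        intro q _ S Z _ _ U _ π τ C T hv
        have hyS := hv.apow_le (hYA hy)
        have hgS := hv.apow_le (mem_apow hg)
        have hmem : y * g ^ 2 ^ (e - 1) * y⁻¹ * (g ^ 2 ^ (e - 1))⁻¹ ∈ S :=
          mul_mem (mul_mem (mul_mem hyS hgS) (inv_mem hyS)) (inv_mem hgS)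
        refine ⟨hmem, ?_⟩
        set y' := y * (g * y⁻¹ * g⁻¹) with hy'
        have hy'Y : y' ∈ Y := mul_mem hy ((mem_normalizer_iff.1 (hPY hg) _).1 (inv_mem hy))
        have e1 : (y' * g) ^ 2 ^ (e - 1) = y * g ^ 2 ^ (e - 1) * y⁻¹ := by
          rw [← conj_pow]; congr 1; rw [hy']; group
        have hab := (view_abelian hv hP hg (hYA.trans hv.apow_le) (hYA.trans hAP) hYc (hPY hg) hy'Y).1
        rw [e1] at hab
        rw [← img_eq π hmem, img_mul π (mul_mem (mul_mem hyS hgS) (inv_mem hyS)) (inv_mem hgS), img_inv π hgS,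
          mul_inv_eq_one]
        have e2 : img π (y * g ^ 2 ^ (e - 1) * y⁻¹) = img π y * img π (g ^ 2 ^ (e - 1)) * (img π y)⁻¹ := by
          rw [img_mul π (mul_mem hyS hgS) (inv_mem hyS), img_mul π hyS hgS, img_inv π hyS]
        rcases hab with h | h | h
        · rw [h]
          rw [e2, conj_eq_one_iff] at h
          exact h.symm
        · rw [e2, h, mul_one, mul_inv_cancel]
        · exact h
      exact mul_inv_eq_iff_eq_mul.1 (mul_inv_eq_one.1 h1)
  -- hence the centre is everything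
  set Y := A ⊓ centralizer (A : Set X) with hY
  have hYc : ∀ x ∈ Y, ∀ y ∈ Y, Commute x y := fun x hx y hy => (mem_centralizer_iff.1 hx.2 y hy.1).symm
  have hPY : P ≤ normalizer (Y : Set X) := Coprime.le_normalizer_inf (conj_mem_apow P e)
    (Coprime.le_normalizer_centralizer (conj_mem_apow P e))
  have hcomm : A ≤ Y := by
    by_contra hne
    haveI := hP.isNilpotent
    haveI hYn : (Y.subgroupOf P).Normal := (normal_subgroupOf_iff_le_normalizer (inf_le_left.trans hAP)).2 hPY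
    haveI hAn : (A.subgroupOf P).Normal := (normal_subgroupOf_iff_le_normalizer hAP).2 (conj_mem_apow P e)
    set ρ := QuotientGroup.mk' (Y.subgroupOf P) with hρ
    haveI : ((A.subgroupOf P).map ρ).Normal := hAn.map ρ (QuotientGroup.mk'_surjective _)
    haveI : Group.IsNilpotent (P ⧸ Y.subgroupOf P) := (hP.to_quotient _).isNilpotent
    have hne' : (A.subgroupOf P).map ρ ≠ ⊥ := fun h0 => hne fun a ha => by
      have h1 : ρ ⟨a, hAP ha⟩ ∈ (A.subgroupOf P).map ρ := mem_map_of_mem ρ ha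
      rw [h0, mem_bot] at h1
      exact (QuotientGroup.eq_one_iff (⟨a, hAP ha⟩ : P)).1 h1
    obtain ⟨z, hz, hz1⟩ := (Subgroup.bot_or_exists_ne_one _).resolve_left (Core.inf_center_ne_bot hne')
    obtain ⟨⟨x, hxP⟩, hxA, rfl⟩ := hz.1
    have hxA' : x ∈ A := hxA
    have hxY : x ∉ Y := fun h => hz1 ((QuotientGroup.eq_one_iff _).2 h)
    have hmove : ∀ t ∈ P, x⁻¹ * (t * x * t⁻¹) ∈ Y := fun t ht => by
      have h1 := mem_center_iff.1 hz.2 (ρ ⟨t, ht⟩)
      have h2 : ρ ((⟨x, hxP⟩ : P)⁻¹ * (⟨t, ht⟩ * ⟨x, hxP⟩ * ⟨t, ht⟩⁻¹)) = 1 := by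
        rw [map_mul, map_mul, map_mul, map_inv, map_inv, h1, mul_inv_cancel_right, inv_mul_cancel]
      exact ((QuotientGroup.eq_one_iff (N := Y.subgroupOf P) _).1 h2 :)
    set Y₂ := closure (insert x (Y : Set X)) with hY₂
    have hY₂A : Y₂ ≤ A := (closure_le A).2 (Set.insert_subset hxA' inf_le_left)
    have hY₂c : ∀ a ∈ Y₂, ∀ b ∈ Y₂, Commute a b := by
      have hg : ∀ a ∈ insert x (Y : Set X), ∀ b ∈ insert x (Y : Set X), Commute a b := by
        rintro a (rfl | ha) b (rfl | hb)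
        · exact Commute.refl _
        · exact mem_centralizer_iff.1 hb.2 a hxA'
        · exact (mem_centralizer_iff.1 ha.2 b hxA' : b * a = a * b).symm
        · exact hYc a ha b hb
      intro a ha b hb
      induction ha, hb using closure_induction₂ with
      | mem a b ha hb => exact hg a ha b hb
      | one_left b _ => exact Commute.one_left b
      | one_right a _ => exact Commute.one_right a
      | mul_left a b c _ _ _ h1 h2 => exact h1.mul_left h2
      | mul_right a b c _ _ _ h1 h2 => exact h1.mul_right h2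
      | inv_left a b _ _ h1 => exact h1.inv_left
      | inv_right a b _ _ h1 => exact h1.inv_right
    have hPY₂ : P ≤ normalizer (Y₂ : Set X) := fun t ht => by
      refine mem_normalizer_iff_map_conj_eq.2 (Subgroup.eq_of_le_of_card_ge ?_
        (card_map_of_injective (MulAut.conj t).injective).ge)
      rw [hY₂, MonoidHom.map_closure, closure_le]
      rintro _ ⟨a, ha, rfl⟩
      show t * a * t⁻¹ ∈ Y₂
      rcases ha with rfl | ha
      · rw [show t * a * t⁻¹ = a * (a⁻¹ * (t * a * t⁻¹)) by group]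
        exact mul_mem (subset_closure (Set.mem_insert a _)) (subset_closure (Set.mem_insert_of_mem _ (hmove t ht)))
      · exact subset_closure (Set.mem_insert_of_mem _ ((mem_normalizer_iff.1 (hPY ht) a).1 ha))
    exact hxY ⟨hxA', mem_centralizer_iff.2 fun a ha =>
      (hclaim Y₂ hY₂A hY₂c hPY₂ x (subset_closure (Set.mem_insert x _)) a ha).symm.eq⟩
  have hc : ∀ a ∈ A, ∀ b ∈ A, Commute a b := fun a ha b hb => hYc a (hcomm ha) b (hcomm hb)
  intro a ha
  refine ⟨?_, hc a ha⟩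
  induction ha using closure_induction with
  | mem a ha =>
    obtain ⟨g, hg, rfl⟩ := ha
    rw [← pow_add, ← two_mul, ← pow_succ', Nat.sub_add_cancel he]
    exact pow_eq_one_of_nil hinj (hKP g hg)
  | one => exact one_mul 1
  | mul a b ha hb iha ihb =>
    rw [show a * b * (a * b) = a * (b * a) * b by group, (hc b hb a ha).eq,
      show a * (a * b) * b = (a * a) * (b * b) by group, iha, ihb, one_mul]
  | inv a _ iha => rw [← mul_inv_rev, iha, inv_one]

/-- The series of `R₀`. -/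
theorem exists_series (hinj : Function.Injective σ) {P R₀ N : Subgroup X} [N.Normal] (hP : IsPGroup 2 P)
    (hN : (Nat.card N).Coprime 2) (hNC : centralizer (N : Set X) ≤ N) (hR : R₀ ≤ P)
    (hPR : P ≤ normalizer (R₀ : Set X)) {e : ℕ} (he : 1 ≤ e) (hKP : ∀ g ∈ P, opN σ g ^ (2 ^ e - 1) = 0) :
    ∃ (c : ℕ) (L : ℕ → Subgroup X), L 0 = ⊥ ∧ L c = R₀ ∧ (∀ s, L s ≤ R₀) ∧
      (∀ s, normalizer (R₀ : Set X) ≤ normalizer (L s : Set X)) ∧
      ∀ s, ∀ r ∈ L (s + 1), ∀ g ∈ P, (r * g) ^ 2 ^ (e - 1) * (g ^ 2 ^ (e - 1))⁻¹ ∈ L s := by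
  classical
  have hel := apow_elementary hinj hP hN hNC hR hPR he hKP
  have hAP := apow_le P e
  let gens : Set X := {z | ∃ y ∈ normalizer (R₀ : Set X), ∃ r ∈ R₀, r ∈ apow P e ∧ z = y * r * y⁻¹}
  set M := closure gens with hM
  have hMR : M ≤ R₀ := (closure_le R₀).2 (by
    rintro _ ⟨y, hy, r, hr, -, rfl⟩
    exact (mem_normalizer_iff.1 hy r).1 hr)
  have hMP : M ≤ P := hMR.trans hR
  have hNM : normalizer (R₀ : Set X) ≤ normalizer (M : Set X) := fun g hg => by
    refine mem_normalizer_iff_map_conj_eq.2 (Subgroup.eq_of_le_of_card_ge ?_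
      (card_map_of_injective (MulAut.conj g).injective).ge)
    rw [hM, MonoidHom.map_closure, closure_le]
    rintro _ ⟨_, ⟨y, hy, r, hr, hrA, rfl⟩, rfl⟩
    exact subset_closure ⟨g * y, mul_mem hg hy, r, hr, hrA, by
      show g * (y * r * y⁻¹) * g⁻¹ = _
      group⟩
  have hgens2 : ∀ t ∈ gens, t * t = 1 := by
    rintro _ ⟨y, -, r, -, hrA, rfl⟩
    rw [show y * r * y⁻¹ * (y * r * y⁻¹) = y * (r * r) * y⁻¹ by group, (hel r hrA).1, mul_one, mul_inv_cancel]
  have hAM : ∀ r ∈ R₀, r ∈ apow P e → r ∈ M := fun r hr hrA =>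
    subset_closure ⟨1, one_mem _, r, hr, hrA, by group⟩
  -- differences of `R₀` lie in `M`
  have hdA : ∀ r ∈ P, ∀ g ∈ P, (r * g) ^ 2 ^ (e - 1) * (g ^ 2 ^ (e - 1))⁻¹ ∈ apow P e := fun r hr g hg =>
    mul_mem (mem_apow (mul_mem hr hg)) (inv_mem (mem_apow hg))
  have hdM : ∀ r ∈ R₀, ∀ g ∈ P, (r * g) ^ 2 ^ (e - 1) * (g ^ 2 ^ (e - 1))⁻¹ ∈ M := fun r hr g hg =>
    hAM _ (nu_mem hr (hPR hg) _) (hdA r (hR hr) g hg)
  have hcent : ∀ x ∈ Zs M 1, ∀ y ∈ M, Commute x y := fun x hx y hy => by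
    have h := (mem_Zs_succ.1 hx).2 y hy
    rwa [Zs_zero, mem_bot, commutatorElement_eq_one_iff_commute] at h
  let Ω : Subgroup X :=
    { carrier := {z | z ∈ Zs M 1 ∧ z * z = 1}
      mul_mem' := fun {a b} ha hb => ⟨mul_mem ha.1 hb.1, by
        rw [show a * b * (a * b) = a * (b * a) * b by group, (hcent b hb.1 a (Zs_le _ _ ha.1)).eq,
          show a * (a * b) * b = (a * a) * (b * b) by group, ha.2, hb.2, one_mul]⟩
      one_mem' := ⟨one_mem _, one_mul 1⟩
      inv_mem' := fun {a} ha => ⟨inv_mem ha.1, by rw [← mul_inv_rev, ha.2, inv_one]⟩ }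
  have hNΩ : normalizer (R₀ : Set X) ≤ normalizer (Ω : Set X) := fun g hg => by
    refine mem_normalizer_iff_map_conj_eq.2 (Subgroup.eq_of_le_of_card_ge ?_
      (card_map_of_injective (MulAut.conj g).injective).ge)
    rintro _ ⟨z, hz, rfl⟩
    refine ⟨Zs_conj (hNM hg) hz.1, ?_⟩
    show g * z * g⁻¹ * (g * z * g⁻¹) = 1
    rw [show g * z * g⁻¹ * (g * z * g⁻¹) = g * (z * z) * g⁻¹ by group, hz.2, mul_one, mul_inv_cancel]
  haveI : Fact (Nat.Prime 2) := ⟨Nat.prime_two⟩
  haveI := (hP.to_le hMP).isNilpotent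
  obtain ⟨c₀, hc₀⟩ := (Group.isNilpotent_iff M).1 inferInstance
  have hZc : Zs M c₀ = M := by
    rw [Zs, hc₀, ← MonoidHom.range_eq_map, Subgroup.range_subtype]
  let L : ℕ → Subgroup X := fun s => match s with
    | 0 => ⊥
    | 1 => Ω
    | k + 2 => if k < c₀ then Zs M (k + 1) else R₀
  refine ⟨c₀ + 2, L, rfl, if_neg (lt_irrefl c₀), ?_, ?_, ?_⟩
  · rintro (_ | _ | k)
    · exact bot_le
    · exact fun z hz => hMR (Zs_le _ _ hz.1)
    · show (if k < c₀ then Zs M (k + 1) else R₀) ≤ R₀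
      split_ifs
      · exact (Zs_le _ _).trans hMR
      · exact le_rfl
  · rintro (_ | _ | k)
    · exact fun g _ => mem_normalizer_iff.2 fun x => by
        show x ∈ (⊥ : Subgroup X) ↔ g * x * g⁻¹ ∈ (⊥ : Subgroup X)
        rw [mem_bot, mem_bot, conj_eq_one_iff]
    · exact hNΩ
    · show normalizer (R₀ : Set X) ≤ normalizer ((if k < c₀ then Zs M (k + 1) else R₀ : Subgroup X) : Set X)
      split_ifs
      · exact hNM.trans (normalizer_le_Zs M _)
      · exact le_rfl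
  · rintro (_ | _ | m) r hr g hg
    · -- the bottom
      have hr' : r ∈ Ω := hr
      show _ ∈ (⊥ : Subgroup X)
      rw [mem_bot]
      have hrR : r ∈ R₀ := hMR (Zs_le _ _ hr'.1)
      refine faithful hinj hP hN hNC hR hPR hKP (apow_le P e (hdA r (hR hrR) g hg)) ?_
      intro q _ S Z _ _ U _ π τ C T hv
      have hMS : M ≤ S := (closure_le S).2 (by
        rintro _ ⟨y, hy, r', hr', hrA, rfl⟩
        exact hv.cover y hy r' hr' hrA)
      have hmem := hv.apow_le (hdA r (hR hrR) g hg)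
      refine ⟨hmem, ?_⟩
      have hΩS : Ω ≤ S := fun z hz => hMS (Zs_le _ _ hz.1)
      have hgS := hv.apow_le (mem_apow hg)
      have hrgS := hv.apow_le (mem_apow (mul_mem (hR hrR) hg))
      have h1 := (view_abelian hv hP hg hΩS (fun z hz => hMP (Zs_le _ _ hz.1))
        (fun a ha b hb => hcent a ha.1 b (Zs_le _ _ hb.1)) (hNΩ (hPR hg)) hr').2 fun z hz => hz.2
      rw [← img_eq π hmem, img_mul π hrgS (inv_mem hgS), img_inv π hgS, h1, mul_inv_cancel]
    · -- into the elementary part of the centre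
      show _ ∈ Ω
      have hr' : r ∈ (if 0 < c₀ then Zs M 1 else R₀) := hr
      split_ifs at hr' with hc
      · exact ⟨nu_mem hr' (normalizer_le_Zs M 1 (hNM (hPR hg))) _,
          (hel _ (hdA r (hMP (Zs_le _ _ hr')) g hg)).1⟩
      · obtain rfl : c₀ = 0 := by omega
        have h1 := hdM r hr' g hg
        rw [← hZc, Zs_zero, mem_bot] at h1
        rw [h1]
        exact one_mem _
    · -- one step down
      show _ ∈ (if m < c₀ then Zs M (m + 1) else R₀)
      have hr' : r ∈ (if m + 1 < c₀ then Zs M (m + 2) else R₀) := hr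
      split_ifs at hr' with hc
      · rw [if_pos (by omega)]
        have hrM := Zs_le _ _ hr'
        have hd : (r * g) ^ 2 ^ (e - 1) * (g ^ 2 ^ (e - 1))⁻¹ ∈ M := hdM r (hMR hrM) g hg
        have crit : ∀ (n : ℕ) (x : X), x ∈ M → (∀ (q : ℕ) (_ : Fact q.Prime) (S : Subgroup X) (Z : Type u)
            (_ : Group Z) (_ : Finite Z) (U : Submodule k V) (_ : Nontrivial U) (π : S →* Z)
            (τ : Z →* Module.End k U) (C T : Subgroup Z), View P R₀ e q S π τ C T →
              img π x ∈ Zs (imgSub π M) n) → x ∈ Zs M n := by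
          intro n
          induction n with
          | zero =>
            intro x hx hall
            rw [Zs_zero, mem_bot]
            refine faithful hinj hP hN hNC hR hPR hKP (hMP hx) ?_
            intro q hq S Z _ _ U _ π τ C T hv
            have hxS : x ∈ S := by
              refine (closure_le S).2 ?_ hx
              rintro _ ⟨y, hy, r', hr', hrA, rfl⟩
              exact hv.cover y hy r' hr' hrA
            have h1 := hall q hq S Z _ _ U _ π τ C T hv
            rw [Zs_zero, mem_bot, img_eq π hxS] at h1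
            exact ⟨hxS, h1⟩
          | succ n ih =>
            intro x hx hall
            refine mem_Zs_succ.2 ⟨hx, fun y hy => ih _ ?_ ?_⟩
            · rw [commutatorElement_def]
              exact mul_mem (mul_mem (mul_mem hx hy) (inv_mem hx)) (inv_mem hy)
            · intro q hq S Z _ _ U _ π τ C T hv
              have hMS : M ≤ S := (closure_le S).2 (by
                rintro _ ⟨y, hy, r', hr', hrA, rfl⟩
                exact hv.cover y hy r' hr' hrA)
              rw [img_commutator π (hMS hx) (hMS hy)]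
              exact (mem_Zs_succ.1 (hall q hq S Z _ _ U _ π τ C T hv)).2 _ (mem_imgSub π hy (hMS hy))
        refine crit (m + 1) _ hd ?_
        intro q _ S Z _ _ U _ π τ C T hv
        exact view_series hv hP (fun a ha => (hel a ha).2) hg ((closure_le S).2 (by
          rintro _ ⟨y, hy, r', hr'', hrA, rfl⟩
          exact hv.cover y hy r' hr'' hrA)) hMP hgens2 (hNM (hPR hg)) hr'
      · have h1 := hdM r hr' g hg
        split_ifs with hk
        · rwa [show m + 1 = c₀ by omega, hZc]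
        · exact hMR h1

end Cfsg.Agent.TwoExp
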